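import Cfsg.Agent.HX.Main

/-! # Involution centralisers `2^{1+6}.L₃(2)`: identification without the two-class hypothesis -/

set_option autoImplicit false
set_option maxRecDepth 100000
set_option synthInstance.maxSize 4000

namespace Cfsg.Agent.HX

open HJ Subgroup PLoc

variable {G : Type*} [Group G]

theorem MD.false' {gs : List Γ} {κ : Γ} {z : G} {Δ : Subgroup (Γ × G)} (M : MD gs κ z Δ) {v0 v0' : Γ}
    (g : Good gs κ v0) (g' : Good gs κ v0') {k : List ℕ} (hκ : κ * κ = 1) (hc : ∀ x ∈ clo gs, x * κ = κ * x)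
    (e : ∀ w ∈ clo gs, cd2 v0 κ w ∈ k) (n : min v0'.c (v0' * κ).c ∉ k)
    (t : ∀ v v', P4 z v → P4 z v' → ∃ c, c * z = z * c ∧ c * v * c⁻¹ = v') : False := by
  obtain ⟨v, m, p⟩ := M.p4 g
  obtain ⟨v', m', p'⟩ := M.p4 g'
  obtain ⟨c, h1, h2⟩ := t v v' p p'
  refine n ?_
  obtain ⟨c0, h3, m1⟩ := M.lift c h1
  have := e c0 h3
  rw [cd2, ← conj_mul, cj_of_comm (hc c0 h3)] at this
  rcases M.inj (by gm) m' h2 with e1 | e1 <;> rw [e1] at this
  · exact this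
  · rwa [mul_assoc, hκ, mul_one, min_comm] at this

variable [Finite G] {z : G} {Q : Subgroup G} (h : XQ z Q)
include h

theorem XQ.ht' {σ x : G} (h1 : σ * z = z * σ) (σ7 : σ ^ 7 = 1) (σQ : σ ∉ Q) (h3 : x * z = z * x)
    (h4 : x * x ∈ Q) (h5 : x * σ * (x * σ) * (x * σ) ∈ Q)
    (t : ∀ v v', P4 z v → P4 z v' → ∃ c, c * z = z * c ∧ c * v * c⁻¹ = v') :
    ∃ a b c e f h i j k s r, HL.HT a b c z e f h i j k s r := by
  obtain ⟨Y, s1, s2⟩ := h.star h1 σ7 σQ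
  have s : St z Q Y := ⟨fun i => (s1 i).1, fun i => (s1 i).2.1, s2⟩
  obtain ⟨aσ, x, h3, c, hc, e⟩ := s.cls h h1 (fun i => (s1 i).2.2) h3 h4 h5
  have eσ : ∀ i < 6, ((⟨Sm.getD i 0⟩ : BV), σ * Y i * σ⁻¹) ∈ gr es (yl Y z) := fun i hi =>
    lin_pow Sm i ▸ aσ _ _ (th_Y hi)
  have A : ∀ Δ σ x, QD Δ z Q → σ * z = z * σ → x * z = z * x →
      (s0, σ) ∈ normalizer (Δ : Set (Γ × G)) → (xa, x) ∈ normalizer (Δ : Set (Γ × G)) → False :=
    fun Δ σ x D h1 h2 h3 h4 => by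
      obtain ⟨κ, Δ', rfl | rfl, M⟩ := D.fin h satA (fun _ a b => leA a b) chA_card zA (by decide)
        (by decide +kernel) h1 h2 h3 h4
      exacts [M.false' gA1 gA3 km cA1 eA1.2 nc.1 t, M.false' gA2 gA4 kz cA2 eA2.2 nc.2.1 t]
  obtain ⟨σ1, h6, h7⟩ := s.adj h satQ rfl rfl rfl (t0 := s0) (by decide +kernel) h1 eσ
  simp only [List.mem_cons, List.not_mem_nil, or_false] at hc
  rcases hc with rfl | rfl | rfl
  · obtain ⟨x1, h8, h9⟩ := s.adj h satQ rfl rfl rfl (t0 := xa) (by decide +kernel) h3 e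
    exact (A _ _ _ (s.qd h satQ rfl rfl rfl).1 h6 h8 h7 h9).elim
  · obtain ⟨x1, h8, h9⟩ := s.adj h satQ' cloQ' rfl rfl (t0 := xa) (by decide +kernel) h3 e
    obtain ⟨σ1, h6, h7⟩ := s.adj h satQ' cloQ' rfl rfl (t0 := s0⁻¹) (by decide +kernel) h1 eσ
    exact (A _ σ1⁻¹ _ (s.qd h satQ' cloQ' rfl rfl).1 (Commute.inv_left h6) h8
      (by simpa using pm_inv h7) h9).elim
  · obtain ⟨x1, h8, h9⟩ := s.adj h satQ rfl rfl rfl (t0 := xb) (by decide +kernel) h3 e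
    obtain ⟨κ, Δ', rfl | rfl, M⟩ := (s.qd h satQ rfl rfl rfl).1.fin h satB (fun _ a b => leB a b)
      chB_card zB
      (by decide) (by decide +kernel) h6 h8 h7 h9
    exacts [M.ht h.cardH, M.false' gB1 gB2 kz cB2 eB1.2 nc.2.2 t |>.elim]

/-- the same from `C(z) / Q ≅ L₃(2)` -/
theorem XQ.ht'' (π : centralizer ({z} : Set G) →* Matrix.SpecialLinearGroup (Fin 3) (ZMod 2))
    (hπ : Function.Surjective π) (kπ : ∀ x, π x = 1 ↔ (x : G) ∈ Q)
    (t : ∀ v v', P4 z v → P4 z v' → ∃ c, c * z = z * c ∧ c * v * c⁻¹ = v') :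
    ∃ a b c e f h i j k s r, HL.HT a b c z e f h i j k s r := by
  obtain ⟨X, S, f1, f2, f3, f4⟩ : ∃ X S : Matrix.SpecialLinearGroup (Fin 3) (ZMod 2), X * X = 1 ∧
      S ^ 7 = 1 ∧ X * S * (X * S) * (X * S) = 1 ∧ S ≠ 1 :=
    ⟨⟨!![1, 0, 0; 1, 1, 0; 0, 0, 1], by decide +kernel⟩, ⟨!![0, 0, 1; 1, 0, 1; 0, 1, 0], by
      decide +kernel⟩, Subtype.ext (by decide +kernel), Subtype.ext (by decide +kernel),
      Subtype.ext (by decide +kernel), fun e => absurd (congrArg Subtype.val e) (by decide +kernel)⟩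
  obtain ⟨x, rfl⟩ := hπ X
  obtain ⟨s, rfl⟩ := hπ S
  have s8 : π (s ^ 8) = π s := by rw [map_pow, pow_succ, f2, one_mul]
  exact h.ht' (σ := (s ^ 8 :)) (x := x)
    (mem_centralizer_singleton_iff.mp (s ^ 8).2) (by
      have : ((s : G) ^ 7) ^ 4 = 1 := by
        rw [show 4 = 2 * 2 from rfl, pow_mul, pow_two (_ ^ 7)]
        rcases h.sq _ ((kπ (s ^ 7)).mp (by rw [map_pow, f2])) with e | e <;>
          simp [(show (s : G) ^ 7 * s ^ 7 = _ from e), pow_two, h.z2]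
      rw [coe_pow, ← pow_mul, show 8 * 7 = 7 * 4 * 2 from rfl, pow_mul, pow_mul, this, one_pow])
    (fun m => f4 (s8 ▸ (kπ _).mpr m)) (mem_centralizer_singleton_iff.mp x.2)
    ((kπ (x * x)).mp (by rw [map_mul, f1]))
    ((kπ (x * s ^ 8 * (x * s ^ 8) * (x * s ^ 8))).mp (by simp only [map_mul, s8, f3])) t

end Cfsg.Agent.HX
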