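import Cfsg.Agent.U2.Def

/-! # Finite facts for the centraliser of `z` -/

set_option autoImplicit false
set_option linter.unusedVariables false
set_option linter.unusedSectionVars false

namespace Cfsg.Agent.U2
open Cfsg Cfsg.Agent.BG Subgroup PHom
open Cfsg.Agent.S3F (p2)
open scoped Matrix

universe u

variable {G : Type u} [Group G] [Finite G] {ι : U5 →* G} {H K M X Y : Subgroup G} {A B : Subgroup U5} {x y : U5}
  {a b g w : G}

namespace Fn
def co (x : U5) : Fin 3 → ZMod 2 := ![cond x.a 1 0, cond x.b 1 0, cond x.c 1 0]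
def ej : Fin 3 → U5 := ![a0, b0, c0]
theorem ejA : ∀ j, ej j ∈ A1 := by decide
theorem co_ej : ∀ j i, co (ej j) i = (1 : Matrix (Fin 3) (Fin 3) (ZMod 2)) i j := by decide
theorem nfA : ∀ x ∈ A1, x = pw x.a a0 * pw x.b b0 * pw x.c c0 * pw x.z z0 := by decide +kernel
theorem co_mul : ∀ x ∈ A1, ∀ y ∈ A1, co (x * y) = co x + co y := by decide +kernel
theorem co_eq : ∀ x ∈ A1, ∀ y ∈ A1, co y = co x → y * x⁻¹ ∈ Z0 := by decide +kernel
theorem f1 : ∀ t, (∀ x ∈ [a0, b0, c0, h0, j0, k0], x * t = t * x) → t ∈ Z0 := by decide +kernel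
theorem f2 : ∀ t, (∀ j, co (t * ej j * t⁻¹) = co (ej j)) ↔ t ∈ Q0 := by decide +kernel
theorem f3 : ∀ t ∈ Q0, (∀ x ∈ [a0, b0, c0], x * t = t * x) → t ∈ A1 := by decide +kernel
theorem f4 : ∀ s, s * s * (s * s) = z0 → ∀ t, t * t = 1 → s * t = t * s → t = 1 ∨ t = z0 ∨ rep t = v0 := by
  decide +kernel
theorem f5 : ∀ x ∈ Q0, rep x = v0 ∨ rep x = 1 ∨ rk1 (rep x) := by decide +kernel
theorem f8 : ∀ x ∈ Q0, x⁻¹ = x ∨ x⁻¹ = x * z0 := by decide +kernel
theorem f9 : ∀ x, x * z0 * z0 = x := by decide +kernel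
theorem f6 : ∀ x ∈ Q0, x * x = 1 ∨ x * x = z0 := by decide +kernel
theorem ncard_p (p : U5 → Prop) [DecidablePred p] : {x | p x}.ncard = (U5.all.filter (p ·)).length := by
  rw [← List.toFinset_card_of_nodup (U5.nodup_all.filter _), ← Set.ncard_coe_finset]
  exact congrArg Set.ncard (Set.ext fun x => by simp [U5.mem_all])
theorem n42 : {x | x ∈ Q0 ∧ x * x = 1 ∧ rep x = v0}.ncard = 42 := (ncard_p _).trans (by decide +kernel)

end Fn

end Cfsg.Agent.U2
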