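import Cfsg.Agent.U2.Wk
import Cfsg.Agent.U2.FinF
import Cfsg.Agent.U2.End

/-! # The centraliser of `z` -/

set_option autoImplicit false
set_option linter.unusedVariables false
set_option linter.unusedSectionVars false

namespace Cfsg.Agent.U2
open Cfsg Cfsg.Agent.BG Subgroup PHom
open Cfsg.Agent.S3F (p2)
open scoped Matrix

universe u

variable {G : Type u} [Group G] [Finite G] {ι : U5 →* G} {H K M X Y : Subgroup G} {A B : Subgroup U5} {x y : U5}
  {a b g w : G}

namespace Fn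
theorem f7 (a : x ∈ Q0) (b : y ∈ Q0) : x * y = y * x ∨ x * y = y * x * z0 := by
  have m := mul_mem a b
  have i := f8
  have zz := f9
  have c : ∀ x y, x * z0 * y = x * y * z0 := fun x y => by rw [mul_assoc, ← z0_cen, mul_assoc]
  have e := mul_inv_rev x y
  rcases i _ m with k | k <;> rcases i _ a with l | l <;> rcases i _ b with n | n <;> rw [k, l, n] at e <;>
    (try simp only [← mul_assoc, c, zz] at e) <;> first
    | exact .inl e
    | exact .inr e
    | exact .inl (mul_right_cancel e)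
    | exact .inr (by rw [← e, zz])
theorem lin {σ : U5 → U5} (q : Pull ι g A1 σ) (qA : ∀ y ∈ A1, σ y ∈ A1) (qz : σ z0 = z0) (a : x ∈ A1) :
    co (σ x) = (Matrix.of fun i j => co (σ (ej j)) i) *ᵥ co x := by
  have p : ∀ (b : Bool) {x : U5}, x ∈ A1 → pw b x ∈ A1 := fun b _ a => by
    cases b
    exacts [one_mem _, a]
  have r : ∀ (b : Bool) (x : U5), co (σ (pw b x)) = (cond b 1 0 : ZMod 2) • co (σ x) := fun b x => by
    cases b
    · exact (congrArg co q.one).trans (by rw [cond_false, zero_smul]; decide)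
    · exact (one_smul _ _).symm
  have m : ∀ x ∈ A1, ∀ y ∈ A1, co (σ (x * y)) = co (σ x) + co (σ y) := fun x a y b => by
    rw [q.mul x a y b, co_mul _ (qA x a) _ (qA y b)]
  have aA := p x.a (show a0 ∈ A1 by decide)
  have bA := p x.b (show b0 ∈ A1 by decide)
  have cA := p x.c (show c0 ∈ A1 by decide)
  have zA := p x.z (show z0 ∈ A1 by decide)
  nth_rewrite 1 [nfA x a]
  rw [m _ (mul_mem (mul_mem aA bA) cA) _ zA, m _ (mul_mem aA bA) _ cA, m _ aA _ bA, r, r, r, r, qz,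
    show co z0 = 0 by decide]
  ext i
  simp [Matrix.mulVec, dotProduct, Fin.sum_univ_three, ej, mul_comm, show co x 0 = cond x.a 1 0 from rfl,
    show co x 1 = cond x.b 1 0 from rfl, show co x 2 = cond x.c 1 0 from rfl]
end Fn
open Fn

theorem Pat.ht (h : Pat ι) (o : O[{2}ᶜ](C1[ι z0]) = ⊥) :
    ∃ a b c z e f h i j k s r : G, HL.HT a b c z e f h i j k s r := by
  have HN : C1[ι z0] ≤ Nz ι := h.nq.trans (by rw [o, bot_sup_eq])
  have nA : C1[ι z0] ≤ N[A1.map ι] := HN.trans h.nA1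
  have nQ : C1[ι z0] ≤ N[Q0.map ι] := HN.trans inf_le_right
  have cZ : C1[ι z0] ≤ C[Z0.map ι] := by rw [map_Z, C_zpowers]
  have sH := h.sub rg_cen
  have od : ∀ x : G, (orderOf x).Prime → orderOf x ∉ ({2} : Set ℕ) → PiG {2}ᶜ (zpowers x) := fun x a b =>
    pig_of_card a (Nat.card_zpowers x) b
  have lH : C[Q0.map ι] ≤ C1[ι z0] := C_le_C1 (mem_im (by decide))
  have cS : ι.range ⊓ C[Q0.map ι] ≤ Z0.map ι := by
    rintro _ ⟨⟨t, rfl⟩, b⟩
    exact mem_im (f1 t fun x a => h.inj (by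
      rw [map_mul, map_mul]; exact mem_C.1 b _ (mem_im ((by decide +kernel : ∀ x ∈ [a0, b0, c0, h0, j0, k0], x ∈ Q0) x a))))
  have cO : ∀ Y ≤ C[Q0.map ι], PiG {2}ᶜ Y → Y = ⊥ := fun Y l p => le_bot_iff.1
    (((burnside p2 (sH.inf_norm' lH (normC nQ)) (inf_le_left.trans (lH.trans (cZ.trans (centS cS))))).le_O l p).trans
      ((O_le_of_normal _ lH (normC nQ)).trans o.le))
  have nt : ∀ x : G, (orderOf x).Prime → zpowers x ≠ ⊥ := fun x a e => by
    rw [zpowers_eq_bot] at e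
    rw [e, orderOf_one] at a
    exact Nat.not_prime_one a
  have cQ : C[Q0.map ι] ≤ Z0.map ι := (le_inf (sH.le_of_norm' (pig_of_prime_elts fun x a b =>
    by_contra fun n => nt x b (cO _ (zpowers_le.2 a) (od x b n))) lH (normC (rg_norm n_Q0))) le_rfl).trans cS
  have pl : ∀ g : C1[ι z0], ∃ σ, Pull ι g A1 σ ∧ (∀ y ∈ A1, σ y ∈ A1) ∧ σ z0 = z0 := fun g => by
    obtain ⟨σ, q⟩ := h.pull ((cj_of_mem_N (nA g.2)).le.trans (map_le A1))
    exact ⟨σ, q, fun y a => h.mem_iff.1 (cj_of_mem_N (nA g.2) ▸ q.mem a),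
      h.inj (by rw [q.eq _ (by decide), mem_C1.1 g.2, mul_inv_cancel_right])⟩
  choose σ q qA qz using pl
  let M : C1[ι z0] → Matrix (Fin 3) (Fin 3) (ZMod 2) := fun g => Matrix.of fun i j => co (σ g (ej j)) i
  have M1 : M 1 = 1 := by
    ext i j
    rw [← co_ej]
    exact congrArg (co · i) (h.inj (by rw [(q 1).eq _ (ejA j)]; simp))
  have Mm : ∀ g k, M (g * k) = M g * M k := fun g k => by
    ext i j
    have e : σ (g * k) (ej j) = σ g (σ k (ej j)) := h.inj (by
      rw [(q _).eq _ (ejA j), (q g).eq _ (qA k _ (ejA j)), (q k).eq _ (ejA j), coe_mul]; group)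
    exact (congrArg (co · i) e).trans (congrFun (lin (q g) (qA g) (qz g) (qA k _ (ejA j))) i)
  let π : C1[ι z0] →* Matrix.SpecialLinearGroup (Fin 3) (ZMod 2) :=
    ⟨⟨fun g => ⟨M g, (by decide : ∀ x y : ZMod 2, x * y = 1 → x = 1) _ (M g⁻¹).det (by
      rw [← Matrix.det_mul, ← Mm, mul_inv_cancel, M1, Matrix.det_one])⟩, Subtype.ext M1⟩,
      fun g k => Subtype.ext (Mm g k)⟩
  have πS : ∀ t, π ⟨ι t, rg_cen (mem_rg t)⟩ = 1 ↔ t ∈ Q0 := fun t => by
    have e : ∀ j, σ ⟨ι t, rg_cen (mem_rg t)⟩ (ej j) = t * ej j * t⁻¹ := fun j => h.inj (by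
      rw [(q _).eq _ (ejA j), map_mul, map_mul, map_inv])
    rw [← f2]
    refine ⟨fun k j => funext fun i => ?_, fun k => Subtype.ext (Matrix.ext fun i j => ?_)⟩
    · rw [← e, co_ej]; exact congrFun (congrFun (congrArg Subtype.val k) i) j
    · exact (congrArg (co · i) (e j)).trans ((congrFun (k j) i).trans (co_ej j i))
  have kπ : ∀ x, π x = 1 ↔ (x : G) ∈ Q0.map ι := by
    refine fun x => ⟨fun e => ?_, ?_⟩
    swap
    · obtain ⟨_, a⟩ := x
      rintro ⟨t, i, rfl⟩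
      exact (πS t).2 i
    let K : Subgroup G := π.ker.map (C1[ι z0]).subtype
    have KH : K ≤ C1[ι z0] := map_subtype_le _
    have nK : ι.range ≤ N[K] := fun s i => mem_N_of (by
      rintro _ ⟨y, a, rfl⟩
      exact ⟨_, (inferInstance : π.ker.Normal).conj_mem y a ⟨s, rg_cen i⟩, rfl⟩)
    have KA : ⁅A1.map ι, K⁆ ≤ Z0.map ι := (commC _ _).le.trans (comm_le_iff.2 (by
      rintro _ ⟨g, a, rfl⟩ _ ⟨y, b, rfl⟩
      have k := lin (q g) (qA g) (qz g) b
      rw [show (Matrix.of fun i j => co (σ g (ej j)) i) = 1 from congrArg Subtype.val a, Matrix.one_mulVec] at k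
      have := mem_im (ι := ι) (co_eq y b _ (qA g y b) k)
      rwa [map_mul, map_inv, (q g).eq y b] at this))
    have pK : PiG {2} K := pig_of_prime_elts fun x a b => by_contra fun n => by
      have p := od x b n
      have l := zpowers_le.2 a
      have cA : A1.map ι ≤ C[zpowers x] := cop_stable ((map_pig Z0).coprime p).symm
        ((commutator_mono le_rfl l).trans KA) (cent_symm (l.trans (KH.trans cZ)))
      refine nt x b (cO _ (cent_symm (cop_stable ((map_pig A1).coprime p).symm ?_ cA)) p)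
      refine (le_inf (comm_le_l.2 (l.trans (KH.trans nQ))) ((commutator_mono le_rfl (cent_symm cA)).trans
        (comm_le_r.2 ((map_le _).trans (normC (rg_norm n_A1)))))).trans ?_
      rintro _ ⟨⟨t, i, rfl⟩, c⟩
      exact mem_im (f3 t i fun x a => h.inj (by
        rw [map_mul, map_mul]; exact mem_C.1 c _ (mem_im ((by decide +kernel : ∀ x ∈ [a0, b0, c0], x ∈ A1) x a))))
    obtain ⟨t, i⟩ := sH.le_of_norm' pK KH nK ⟨x, e, rfl⟩
    obtain rfl : x = ⟨ι t, rg_cen (mem_rg t)⟩ := Subtype.ext i.symm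
    exact mem_im ((πS t).1 e)
  have c3 : Nat.card (Matrix.SpecialLinearGroup (Fin 3) (ZMod 2)) = 168 := by
    have := Class.card_SL (F := ZMod 2) 3 (by norm_num)
    rw [ZMod.card, Fin.prod_univ_three] at this
    exact (one_mul _).symm.trans this
  have ck : Nat.card π.ker = 128 := by
    rw [show π.ker = (Q0.map ι).subgroupOf C1[ι z0] from Subgroup.ext kπ,
      Nat.card_congr (subgroupOfEquivOfLe ((map_le _).trans rg_cen)).toEquiv, h.card, card_Q0]
  have c1 := π.ker.card_mul_index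
  rw [ck, index_ker] at c1
  have c2 : Nat.card π.range ≤ 168 := c3 ▸ card_le_card_group _
  have c4 := SE.card_conj C1[ι z0] (ι v0)
  rw [show {x | ∃ d ∈ C1[ι z0], d * ι v0 * d⁻¹ = x} = ι '' {x | x ∈ Q0 ∧ x * x = 1 ∧ rep x = v0} from Set.ext fun x =>
    ⟨fun ⟨d, a, e⟩ => by
      obtain ⟨y, b, k⟩ := conj_mem (nQ a) (mem_im (show v0 ∈ Q0 by decide))
      have s := h.sq_of (by rw [k]; exact cjsq rfl (by decide) : ι y * ι y = 1)
      have l : Cj ⊤ (ι (rep y)) (ι v0) := (h.cls y s).top.symm.trans (Cj.symm ⟨d, trivial, k.symm⟩)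
      refine ⟨y, ⟨b, s, (f5 y b).resolve_right fun n => n.elim (fun n => ?_) fun n => h.rk n (by decide) l⟩, k.trans e⟩
      obtain ⟨g, -, l⟩ := l
      exact h.ne_one (show v0 ≠ 1 by decide) (by simpa [n] using l.symm), by
      rintro ⟨y, ⟨-, s, e⟩, rfl⟩
      exact (e ▸ (h.cls y s).mono Nz_le).symm⟩, Set.ncard_image_of_injective _ h.inj, n42] at c4
  have c5 := card_dvd_of_le (rg_cen (ι := ι))
  rw [h.card_rg] at c5
  have c6 : 0 < Nat.card π.range := Nat.card_pos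
  have c7 : Nat.card π.range = 168 := by omega
  have zz : ι z0 * ι z0 = 1 := by rw [← map_mul, show z0 * z0 = 1 by decide, map_one]
  have xq : HX.XQ (ι z0) (Q0.map ι) := ⟨⟨zz, h.ne_one (by decide), fun x a => mem_C1.1 (rg_cen (map_le _ a)), by
      rintro _ ⟨x, a, rfl⟩ _ ⟨y, b, rfl⟩
      simpa only [← map_mul, h.eq] using f7 a b, by
      rintro _ ⟨x, a, rfl⟩
      exact (f6 x a).imp (fun e => by rw [← map_mul, e, map_one]) fun e => by rw [← map_mul, e]⟩,
    fun g a x b => conj_mem (nQ (mem_C1.2 a)) b, (h.card _).trans card_Q0, by rw [← c1, c7], fun g a b => by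
      obtain ⟨t, i, rfl⟩ := cQ (mem_C.2 fun x c => (b x c).symm)
      exact ((mem_Z0 t).1 i).imp (fun e => by rw [e, map_one]) (congrArg ι), mem_im (by decide)⟩
  have p4 : ∀ v, HX.P4 (ι z0) v → Cj C1[ι z0] v (ι v0) := fun v p => by
    obtain ⟨w, w1, w2, w3⟩ := p.ex
    have pw : PiG {2} (zpowers w) := pig_of_pg p2 (IsPGroup.of_card_dvd_pow (n := 3) (by
      rw [Nat.card_zpowers]
      exact orderOf_dvd_of_pow_eq_one (by rw [show 2 ^ 3 = 4 + 4 from rfl, pow_add, w3, zz])))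
    obtain ⟨g, a, l⟩ := h.cj_sub rg_cen (X := zpowers w ⊔ zpowers v)
      (sup_le (zpowers_le.2 (mem_C1.2 w1)) (zpowers_le.2 (mem_C1.2 p.cz)))
      (pw.sup_l (pig_zpowers.2 (pie_of_pow p2 ((pow_two v).trans p.v2)))
        (cents_norm (zpowers_le.2 (by rw [C_zpowers]; exact mem_C1.2 w2.symm))))
    obtain ⟨s, e1⟩ := l (mem_cj_conj.2 (mem_sup_left (mem_zpowers w)))
    obtain ⟨t, e2⟩ := l (mem_cj_conj.2 (mem_sup_right (mem_zpowers v)))
    have gz : g * ι z0 * g⁻¹ = ι z0 := by rw [mem_C1.1 a, mul_inv_cancel_right]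
    have t2 : t * t = 1 := h.sq_of (by rw [e2, conj_mul, p.v2]; simp)
    rcases f4 s (h.inj (by rw [map_mul, map_mul, e1, conj_mul, conj_mul, ← gz, ← w3]; simp [pow_succ, mul_assoc])) t t2
      (h.inj (by rw [map_mul, map_mul, e1, e2, conj_mul, conj_mul, w2])) with rfl | rfl | e
    · exact (p.v1 (by simpa using e2.symm)).elim
    · exact (p.vz (by simpa using e2.symm.trans gz.symm)).elim
    · exact Cj.trans ⟨g, a, e2.symm⟩ (e ▸ (h.cls t t2).mono Nz_le)
  obtain ⟨a, b, c, e, f, h', i, j, k, s, r, H⟩ := xq.ht'' π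
    (MonoidHom.range_eq_top.1 (eq_top_of_card_eq _ (c7.trans c3.symm))) kπ fun v v' p p' => by
      obtain ⟨c, c1, c2⟩ := (p4 v p).trans (p4 v' p').symm
      exact ⟨c, mem_C1.1 c1, c2⟩
  exact ⟨a, b, c, _, e, f, h', i, j, k, s, r, H⟩

end Cfsg.Agent.U2
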