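import Cfsg.Agent.U2.Wk

/-! # All transvections are conjugate -/

set_option autoImplicit false
set_option linter.unusedVariables false
set_option linter.unusedSectionVars false

namespace Cfsg.Agent.U2
open Cfsg Cfsg.Agent.BG Subgroup PHom
open Cfsg.Agent.S3F (p2)

universe u

variable {G : Type u} [Group G] [Finite G] {ι : U5 →* G} {H K M X Y : Subgroup G} {A B : Subgroup U5} {x y : U5}
  {a b g w : G}

namespace Fz
theorem d1 : ∀ x, x * x = 1 → x = 1 ∨ x = z0 ∨ rep x = f0 ∨ rep x = f0 * z0 ∨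
    rep x ∈ [c0, h0, v0, f0 * b0, f0 * j0] := by decide +kernel
theorem d2 : ∀ r ∈ [c0, h0, v0, f0 * b0, f0 * j0], ∃ s ∈ [k0, a0, j0, b0], s * r * s⁻¹ = r * z0 := by decide +kernel
theorem d3 : ∀ x, x * x = 1 → x ∈ Z0 ∨ (rep x = c0 ∧ x ∈ A1) ∨ (rep x = h0 ∧ x ∈ A2) ∨ rep x = f0 ∨ rep x = f0 * b0 ∨
    rep x = f0 * j0 ∨ rk2 (rep x) := by decide +kernel
theorem d4 : (∀ x ∈ A1, x * x = 1 ∧ (x = 1 ∨ rep x = z0 ∨ rep x = c0)) ∧
    (∀ x ∈ A2, x * x = 1 ∧ (x = 1 ∨ rep x = z0 ∨ rep x = h0)) ∧ Z0 ≤ A1 ∧ Z0 ≤ A2 :=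
  ⟨by decide +kernel, by decide +kernel, le_of (by decide +kernel), le_of (by decide +kernel)⟩
end Fz
open Fz

namespace Pat
variable (h : Pat ι)
include h

theorem cl (a : x * x = 1) (e : rep x = y) : Cj ⊤ (ι x) (ι y) := e ▸ (h.cls x a).top

/-- the fusion in a four-group containing a conjugate of `z` -/
theorem key (e : Cj ⊤ (ι x) (ι z0)) (c : y * x = x * y) (y2 : y * y = 1) (n1 : y ≠ 1) (n2 : y ≠ x)
    (n3 : ¬ Cj ⊤ (ι y) (ι (f0 * z0))) :
    Cj ⊤ (ι y) (ι (y * x)) ∨ (Cj ⊤ (ι y) (ι f0) ∧ Cj ⊤ (ι (y * x)) (ι (f0 * z0))) := by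
  obtain ⟨g, σ, q, s⟩ := h.toZ' e
  have a : y ∈ C1[x] := mem_C1.2 c
  have b := mem_C1_self x
  obtain ⟨k, hk, f⟩ := h.cls _ (q.sq1 a y2)
  have e1 : Cj ⊤ (ι y) (ι (rep (σ y))) := (q.cj (mem_top g) a).trans ⟨k, trivial, f⟩
  have e2 : Cj ⊤ (ι (y * x)) (ι (rep (σ y) * z0)) := (q.cj (mem_top g) (mul_mem a b)).trans ⟨k, trivial, by
    rw [q.mul y a x b, s, map_mul, map_mul, ← conj_mul, f, mem_C1.1 hk.1, mul_inv_cancel_right]⟩
  rcases d1 _ (q.sq1 a y2) with i | i | i | i | i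
  · exact (q.ne1 a n1 i).elim
  · exact (q.ne a b n2 (i.trans s.symm)).elim
  · exact Or.inr ⟨i ▸ e1, i ▸ e2⟩
  · exact (n3 (i ▸ e1)).elim
  · obtain ⟨t, -, j⟩ := d2 _ i
    exact Or.inl ((e1.trans (cj_s' ⟨t, j⟩).top).trans e2.symm)

theorem nr (a : rk1 x) : ¬ Cj ⊤ (ι x) (ι (f0 * z0)) := h.rk a (by decide)

theorem fb (e : Cj ⊤ (ι (f0 * b0)) (ι z0)) : Cj ⊤ (ι f0) (ι z0) := by
  have b : Cj ⊤ (ι (f0 * (f0 * b0))) (ι c0) := h.cl (by decide) (by decide)
  have c : Cj ⊤ (ι (c0 * (f0 * b0))) (ι z0) := (h.cl (by decide) (by decide)).trans e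
  exact (((h.key (y := f0) e (by decide) (by decide) (by decide) (by decide) (h.nr (by decide))).resolve_right
    fun i => h.nr (by decide) (b.symm.trans i.2)).trans b).trans
    (((h.key (y := c0) e (by decide) (by decide) (by decide) (by decide) (h.nr (by decide))).resolve_right
      fun i => h.nr (by decide) (c.symm.trans i.2)).trans c)

theorem fj (e : Cj ⊤ (ι (f0 * j0)) (ι z0)) : Cj ⊤ (ι f0) (ι z0) := by
  have b : Cj ⊤ (ι (f0 * (f0 * j0))) (ι h0) := h.cl (by decide) (by decide)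
  have c : Cj ⊤ (ι (h0 * (f0 * j0))) (ι z0) := (h.cl (by decide) (by decide)).trans e
  exact (((h.key (y := f0) e (by decide) (by decide) (by decide) (by decide) (h.nr (by decide))).resolve_right
    fun i => h.nr (by decide) (b.symm.trans i.2)).trans b).trans
    (((h.key (y := h0) e (by decide) (by decide) (by decide) (by decide) (h.nr (by decide))).resolve_right
      fun i => h.nr (by decide) (c.symm.trans i.2)).trans c)

theorem ch (e : Cj ⊤ (ι c0) (ι z0)) : Cj ⊤ (ι h0) (ι f0) ∧ Cj ⊤ (ι (h0 * c0)) (ι (f0 * z0)) :=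
  (h.key (y := h0) e (by decide) (by decide) (by decide) (by decide) (h.nr (by decide))).resolve_left
    (h.rk (by decide) (by decide))

theorem sc [IsSimpleGroup G] (ab : Abelem 2 A) (z : z0 ∈ A) (h1 : ∀ x ∈ A, x = 1 ∨ Cj ⊤ (ι x) (ι z0))
    (h2 : ∀ x, x * x = 1 → Cj ⊤ (ι x) (ι z0) → x ∈ A) : False := by
  rcases GF.gs' (fun c => absurd (h.inj (show ι (a0 * e0) = ι (e0 * a0) by
      rw [map_mul, map_mul]; exact c.is_comm.comm _ _)) (by decide)) h.syl
    (fun e => h.ne_one (x := z0) (by decide) (mem_bot.1 (e ▸ mem_im z))) (ab.map ι).abel ⟨map_le A, by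
      rintro _ ⟨x, a, rfl⟩ g ⟨y, e⟩
      rcases h1 x a with rfl | c
      · simp
      · exact e ▸ mem_im (h2 y (h.sq_of (cjsq e.symm ((pow_two x).symm.trans (ab.pow x a))))
          (Cj.trans (Cj.symm ⟨g, trivial, e.symm⟩) c))⟩ with ⟨M, se⟩ | ⟨e, -, c, -⟩
  · exact h.rk (x := z0) (y := v0) (by decide) (by decide)
      (cj_iff.2 (Inv.se_isConj se (h.ord (by decide) (by decide)) (h.ord (by decide) (by decide))))
  · rw [← e, h.card_rg] at c
    omega

theorem fz0 [IsSimpleGroup G] : Cj ⊤ (ι f0) (ι z0) := by_contra fun n => by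
  have k : ∀ x, x * x = 1 → Cj ⊤ (ι x) (ι z0) → x ∈ Z0 ∨ (Cj ⊤ (ι c0) (ι z0) ∧ x ∈ A1) ∨
      (Cj ⊤ (ι h0) (ι z0) ∧ x ∈ A2) := fun x a e => by
    rcases d3 x a with i | i | i | i | i | i | i
    · exact Or.inl i
    · exact Or.inr (Or.inl ⟨(h.cl a i.1).symm.trans e, i.2⟩)
    · exact Or.inr (Or.inr ⟨(h.cl a i.1).symm.trans e, i.2⟩)
    · exact (n ((h.cl a i).symm.trans e)).elim
    · exact (n (h.fb ((h.cl a i).symm.trans e))).elim
    · exact (n (h.fj ((h.cl a i).symm.trans e))).elim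
    · exact (h.rk (by decide) i (e.symm.trans (h.cl a rfl))).elim
  by_cases c1 : Cj ⊤ (ι c0) (ι z0)
  · refine h.sc ab_A1 (by decide) (fun x a => (d4.1 x a).2.imp_right fun i => i.elim (h.cl (d4.1 x a).1)
      fun i => (h.cl (d4.1 x a).1 i).trans c1) fun x a e => ?_
    exact (k x a e).elim (fun i => d4.2.2.1 i) fun i => i.elim (·.2) fun i => (n ((h.ch c1).1.symm.trans i.1)).elim
  by_cases c2 : Cj ⊤ (ι h0) (ι z0)
  · refine h.sc ab_A2 (by decide) (fun x a => (d4.2.1 x a).2.imp_right fun i => i.elim (h.cl (d4.2.1 x a).1)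
      fun i => (h.cl (d4.2.1 x a).1 i).trans c2) fun x a e => ?_
    exact (k x a e).elim (fun i => d4.2.2.2 i) fun i => i.elim (fun i => (c1 i.1).elim) (·.2)
  exact h.sc (ab_A1.of_le d4.2.2.1) (by decide) (fun x a => ((mem_Z0 x).1 a).imp_right fun i => by rw [i]; exact Cj.refl _ _)
    fun x a e => (k x a e).elim id fun i => i.elim (fun i => (c1 i.1).elim) fun i => (c2 i.1).elim
end Pat

theorem Pat.pz [IsSimpleGroup G] (h : Pat ι) : Pz ι := by
  have f := h.fz0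
  have c : Cj ⊤ (ι c0) (ι z0) :=
    (h.key (y := c0) f (by decide) (by decide) (by decide) (by decide) (h.nr (by decide))).elim
      (fun i => i.trans ((h.cl (by decide) (by decide)).trans f)) fun i => i.1.trans f
  refine ⟨h, fun x a => ?_, (h.ctlU le_top (by decide) (by decide)
    ((h.ch c).2.symm.trans (h.cl (by decide) (by decide)))).mono inf_le_right⟩
  rcases a.2 with i | i | i | i
  exacts [h.cl a.1 i, (h.cl a.1 i).trans c, (h.cl a.1 i).trans ((h.ch c).1.trans f), (h.cl a.1 i).trans f]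

end Cfsg.Agent.U2
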