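import Cfsg.Agent.U2.Wk
import Cfsg.Agent.H8.SC
import Cfsg.Agent.H8.SE2
import Cfsg.Agent.ZD.Basic

/-! # The centraliser of `v` -/

set_option autoImplicit false
set_option linter.unusedVariables false
set_option linter.unusedSectionVars false

namespace Cfsg.Agent.U2
open Cfsg Cfsg.Agent.BG Subgroup PHom
open Cfsg.Agent.S3F (p2)

universe u

variable {G : Type u} [Group G] [Finite G] {ι : U5 →* G} {H K M X Y : Subgroup G} {A B : Subgroup U5} {x y : U5}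
  {a b g w : G}

namespace Kv
theorem d1 : ∀ x, x = 1 ∨ x = z0 ∨ ∃ s ∈ [a0, e0, i0, k0], s * x ≠ x * s := by decide +kernel
theorem d2 : ∀ y, rk2 y → rk2 (v0 * y) → ∀ s ∈ Sv, s * y = y * s → s ∈ T0 := by decide +kernel
theorem d3 : ∀ t ∈ Sv, t * t = 1 → t = 1 ∨ t = v0 ∨ t = v1 ∨ t = v0 * v1 ∨ tv t ∨ tv (t * v0) ∨
    (t ∈ E1 ∧ t ∉ U0 ∧ (rep t = f0 * b0 ∨ rep (t * v0) = f0 * b0)) ∨
    (t ∈ E2 ∧ t ∉ U0 ∧ (rep t = f0 * j0 ∨ rep (t * v0) = f0 * j0)) ∨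
    (h0 * t * h0⁻¹ = z0 * t ∧ h0 * (t * v0) * h0⁻¹ = z0 * (t * v0) ∧
      ∃ s ∈ [b0 * j0, b0 * j0 * h0], s ∈ Sv ∧ s * t = t * s ∧ s * s = z0) := by decide +kernel
theorem d4 : ∀ y ∈ E1, y ∈ U0 ∨ rk2 (rep y) ∨ rep y = f0 * b0 ∨ rk2 (rep (y * v0)) ∨ rep (y * v0) = f0 * b0 := by
  decide +kernel
theorem d5 : ∀ y ∈ E2, y ∈ U0 ∨ rk2 (rep y) ∨ rep y = f0 * j0 ∨ rk2 (rep (y * v0)) ∨ rep (y * v0) = f0 * j0 := by
  decide +kernel
theorem d6 : ∀ s ∈ T0, s * s = 1 ∨ rk2 (s * s) ∨ tv (s * s * v1) ∨ tv (s * s * (v1 * v0)) := by decide +kernel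
theorem d7 : ∀ t ∈ T0, t ∈ V0 ∨ t * t ∉ V0 ∨ ∃ u ∈ [1, v0, v1, v0 * v1], u ∈ V0 ∧ tv (t * u) := by decide +kernel
theorem d8 : ∀ x, x * x = 1 → rep x ∈ E1 ∨ rep x ∈ E2 := by decide +kernel
theorem le1 : E1 ≤ Sv ∧ E2 ≤ Sv ∧ U0 ≤ E1 ∧ U0 ≤ E2 ∧ T0 ≤ Sv ∧ T0 ≤ C1[v1] ∧ V0 ≤ T0 :=
  ⟨le_of (by decide +kernel), le_of (by decide +kernel), le_of (by decide +kernel), le_of (by decide +kernel),
    le_of (by decide +kernel), le_of (by decide +kernel), le_of (by decide +kernel)⟩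
theorem Sv_K : Sv.map ι ≤ C1[ι v0] := C_v ▸ map_C1 v0
theorem fix (a1 : g ∈ C1[a]) : g * a * g⁻¹ = a := by rw [mem_C1.1 a1, mul_inv_cancel_right]
theorem le_L (l : X ≤ C1[ι v0]) (l' : X ≤ C1[ι v1]) : X ≤ C[V0.map ι] := cent_symm (by
  rintro _ ⟨x, a, rfl⟩
  have m := le_C1_iff.1 l
  have m' := le_C1_iff.1 l'
  rcases (mem_V0 x).1 a with rfl | rfl | rfl | rfl
  exacts [by simp, m, m', by rw [map_mul]; exact mul_mem m m'])
theorem quo_one (a : g ∈ N[K]) : (quo K).app g = 1 ↔ g ∈ K := by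
  have := PHom.mem_ker (φ := quo K) (x := g)
  rw [quo_ker] at this
  exact ⟨fun e => this.2 ⟨a, e⟩, fun b => (this.1 b).2⟩
theorem L_K : C[V0.map ι] ≤ C1[ι v0] := C_le_C1 (mem_im (by decide))

/-- Bender's theorem for groups containing `D₈` -/
theorem se_le {t : G} (ht : orderOf t = 2) (ha : orderOf a = 2) (hb : orderOf b = 2) (aH : a ∈ H ⊓ M) (bH : b ∈ H ⊓ M)
    (e : a * b * (a * b) = t) (k : ∀ s ∈ H ⊓ M, orderOf s = 2 → ∀ g ∈ M, g * s * g⁻¹ ∈ H → g ∈ H) : M ≤ H := by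
  have tH : t ∈ H ⊓ M := e ▸ mul_mem (mul_mem aH bH) (mul_mem aH bH)
  by_contra n
  have se : IsStronglyEmbedded (H.subgroupOf M) := Inv.se_iff.2 ⟨fun e => n (subgroupOf_eq_top.1 e), by
    have := (H.subgroupOf M).orderOf_dvd_natCard (x := ⟨t, tH.2⟩) tH.1
    rw [← orderOf_coe, ht] at this
    exact even_iff_two_dvd.2 this, fun s s1 s2 g l => k s ⟨s1, s.2⟩ (by rwa [orderOf_coe]) g g.2 l⟩
  have c : ∀ g ∈ M, g * t = t * g → g ∈ H := fun g a b => k t tH ht g a (by rw [b, mul_inv_cancel_right]; exact tH.1)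
  refine n (H8SE.se_le ht tH.1 tH.2 c (fun s s1 s2 i => ?_) ha hb aH.1 bH.1 aH.2 bH.2 e)
  obtain ⟨g, j⟩ := isConj_iff.1 (Inv.se_isConj se (a := ⟨t, tH.2⟩) (b := ⟨s, s1⟩) (by rwa [← orderOf_coe])
    (by rwa [← orderOf_coe]))
  have j' : (g : G) * t * (g : G)⁻¹ = s := congrArg Subtype.val j
  exact ⟨g, k t tH ht g g.2 (j' ▸ c s s1 i), g.2, j'⟩
end Kv
open Kv

namespace TM
variable (h : TM ι)
include h

theorem nz2 (a : rk2 x) : ¬ Cj ⊤ (ι x) (ι z0) := fun e => h.rk (by decide) a e.symm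

theorem sylK : Syl 2 (Sv.map ι) C1[ι v0] := syl_of_max p2 Sv_K (map_pig _) fun P p l l' => by
  obtain ⟨g, -, c⟩ := h.cj_sub le_top (le_top (a := P)) p
  obtain ⟨x, e⟩ := c (mem_cj_conj.2 (l' (mem_im (show v0 ∈ Sv by decide))))
  have i : BG.cj g P ≤ C1[x].map ι := h.inf_C1 x ▸ le_inf c (by rw [e, ← cj_C1]; exact cj_mono _ l)
  rcases d1 x with rfl | rfl | ⟨s, -, j⟩
  · exact (h.ne_one (x := v0) (by decide) (by simpa using e.symm)).elim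
  · exact (h.nz2 (by decide) ⟨g, trivial, e.symm⟩).elim
  have k := (C1[x]).card_mul_index
  have m : (C1[x]).index ≠ 1 := fun m => j (mem_C1.1 (index_eq_one.1 m ▸ mem_top s))
  have n := card_le_of_le i
  rw [card_cj, h.card] at n
  rw [U5.card] at k
  refine (eq_of_le_of_card_ge l' ?_).symm
  rw [h.card, card_Sv]
  rcases Nat.lt_or_ge (C1[x]).index 2 with o | o
  · rw [show (C1[x]).index = 0 by omega] at k; omega
  · nlinarith

theorem sylL : Syl 2 (T0.map ι) C[V0.map ι] :=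
  syl_of_max p2 (le_L ((map_mono le1.2.2.2.2.1).trans Sv_K) ((map_mono le1.2.2.2.2.2.1).trans (map_C1 _)))
    (map_pig _) fun P p l l' => by
  obtain ⟨g, a, c⟩ := h.sylK.cj_sub p2 (l.trans L_K) p
  have b := h.nT ((cj_mono _ l').trans (c.trans (map_le _)))
  obtain ⟨σ, q, -, -, -, -, r⟩ := h.pullT b
  have e : σ v0 = v0 := h.inj ((q.eq v0 (by decide)).trans (fix a))
  have r2 := r (v0 * v1) (by decide)
  rw [q.mul v0 (by decide) v1 (by decide), e] at r2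
  refine le_antisymm ((cj_le_cj (g := g)).1 fun w i => ?_) l'
  rw [cj_of_mem_N (h.NT_T b)]
  obtain ⟨s, j, rfl⟩ := c i
  refine mem_im (d2 _ (r v1 (by decide)) r2 s j (h.inj ?_))
  rw [map_mul, map_mul, q.eq v1 (by decide)]
  exact mem_C1.1 (cj_C1 g _ ▸ cj_mono g (l.trans (C_le_C1 (mem_im (show v1 ∈ V0 by decide)))) i)

theorem toV (a : g ∈ C1[ι v0]) (e : g * ι v1 * g⁻¹ = ι x) : ∃ k ∈ C1[ι v0], k * ι x * k⁻¹ = ι v1 ∧
    BG.cj k ((Sv ⊓ C1[x]).map ι) ≤ T0.map ι := by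
  have e' : g⁻¹ * ι x * g⁻¹⁻¹ = ι v1 := by rw [← e]; group
  obtain ⟨c, b, d⟩ := h.sylL.cj_sub p2 (U := BG.cj g⁻¹ ((Sv ⊓ C1[x]).map ι))
    (le_L (cj_le_of_mem ((map_mono inf_le_left).trans Sv_K) (normG _ (inv_mem a)))
      (by rw [← e', ← cj_C1]; exact cj_mono _ ((map_mono inf_le_right).trans (map_C1 x)))) ((map_pig _).cj _)
  refine ⟨c * g⁻¹, mul_mem (L_K b) (inv_mem a), ?_, by rwa [cj_mul]⟩
  rw [show c * g⁻¹ * ι x * (c * g⁻¹)⁻¹ = c * (g⁻¹ * ι x * g⁻¹⁻¹) * c⁻¹ by group, e',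
    fix (C_le_C1 (mem_im (show v1 ∈ V0 by decide)) b)]
end TM

namespace Pz
variable (h : Pz ι)
include h

theorem inU {r : U5} (d : ∀ y ∈ A, y ∈ U0 ∨ rk2 (rep y) ∨ rep y = r ∨ rk2 (rep (y * v0)) ∨ rep (y * v0) = r)
    (ab : Abelem 2 A) (l : U0 ≤ A) (n : ¬ Cj ⊤ (ι r) (ι z0)) (a : g ∈ C1[ι v0]) (b : g ∈ N[A.map ι]) :
    g * ι v1 * g⁻¹ ∈ U0.map ι := by
  have k : ∀ y ∈ U0, tv y → tv (y * v0) → g * ι y * g⁻¹ ∈ U0.map ι := fun y y1 y2 y3 => by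
    obtain ⟨x, x1, e⟩ := conj_mem b (mem_im (ι := ι) (l y1))
    have s : ∀ x ∈ A, Cj ⊤ (ι x) (ι z0) → Cj ⊤ (ι (rep x)) (ι z0) := fun x a c =>
      (h.cls x ((pow_two x).symm.trans (ab.pow x a))).top.symm.trans c
    have c1 := s x x1 ((Cj.symm ⟨g, mem_top g, e.symm⟩).trans (h.fz y y2))
    have c2 := s (x * v0) (mul_mem x1 (l (by decide))) ((Cj.symm ⟨g, mem_top g, by
      rw [map_mul, map_mul, ← conj_mul, e, fix a]⟩).trans (h.fz _ y3))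
    rcases d x x1 with i | i | i | i | i
    exacts [e ▸ mem_im i, (h.nz2 i c1).elim, (n (i ▸ c1)).elim, (h.nz2 i c2).elim, (n (i ▸ c2)).elim]
  rw [show v1 = z0 * h0 * (f0 * h0) * h0 by decide, map_mul, map_mul, ← conj_mul, ← conj_mul]
  exact mul_mem (mul_mem (k _ (by decide) (by decide) (by decide)) (k _ (by decide) (by decide) (by decide)))
    (k _ (by decide) (by decide) (by decide))

theorem iso (t : x ∈ Sv) (a : g ∈ C1[ι v0]) (e : g * ι v1 * g⁻¹ = ι x) : x = v1 ∨ x = v0 * v1 := by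
  have x2 : x * x = 1 := h.sq_of (cjsq e (by decide))
  have n1 : ¬ Cj ⊤ (ι x) (ι z0) := fun c => h.nz2 (x := v1) (by decide) (Cj.trans ⟨g, trivial, e⟩ c)
  have n2 : ¬ Cj ⊤ (ι (x * v0)) (ι z0) := fun c => h.nz2 (x := v1 * v0) (by decide)
    (Cj.trans ⟨g, trivial, by rw [map_mul, map_mul, ← conj_mul, e, fix a]⟩ c)
  have y2 : x * v0 * (x * v0) = 1 := by
    have : x * v0 = v0 * x := mem_C1.1 (C_v ▸ t)
    rw [mul_assoc, ← mul_assoc v0, ← this, mul_assoc x, show v0 * v0 = 1 by decide, mul_one, x2]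
  obtain ⟨k, k1, k2, k3⟩ := h.toV a e
  have u : ∀ {A r}, (∀ y ∈ A, y ∈ U0 ∨ rk2 (rep y) ∨ rep y = r ∨ rk2 (rep (y * v0)) ∨ rep (y * v0) = r) →
      Abelem 2 A → U0 ≤ A → k ∈ N[A.map ι] → rep x = r ∨ rep (x * v0) = r → x ∈ U0 := fun {A r} d ab l b i => by
    have := h.inU d ab l (fun c => i.elim (fun i => n1 ((h.cls x x2).top.trans (i ▸ c)))
      fun i => n2 ((h.cls _ y2).top.trans (i ▸ c))) (inv_mem k1) (inv_mem b)
    rw [← k2] at this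
    exact h.mem_iff.1 (by simpa [mul_assoc] using this)
  rcases d3 x t x2 with rfl | rfl | i | i | i | i | i | i | ⟨i1, i2, s, -, s1, s2, s3⟩
  · exact (h.ne_one (x := v1) (by decide) (by simpa using e)).elim
  · exact absurd (h.inj (show ι v1 = ι v0 by simpa using e.trans (fix a).symm)) (by decide)
  · exact Or.inl i
  · exact Or.inr i
  · exact (n1 (h.fz _ i)).elim
  · exact (n2 (h.fz _ i)).elim
  · exact (i.2.1 (u d4 ab_E1 le1.2.2.1 (h.n1 ((cj_mono _ (map_mono (le_inf le1.1 (ab_E1.abel.trans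
      (C_le_C1 i.1))))).trans (k3.trans (map_le _)))) i.2.2)).elim
  · exact (i.2.1 (u d5 ab_E2 le1.2.2.2.1 (h.n2 ((cj_mono _ (map_mono (le_inf le1.2.1 (ab_E2.abel.trans
      (C_le_C1 i.1))))).trans (k3.trans (map_le _)))) i.2.2)).elim
  obtain ⟨r, r1, r2⟩ := k3 (mem_cj_conj.2 (mem_im (show s ∈ Sv ⊓ C1[x] from ⟨s1, mem_C1.2 s2⟩)))
  have j : ι (r * r) = k * ι z0 * k⁻¹ := by rw [map_mul, r2, conj_mul, ← map_mul, s3]
  rcases d6 r r1 with i | i | i | i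
  · exact (h.ne_one (x := z0) (by decide) (by simpa [i] using j.symm)).elim
  · exact (h.nz2 i (Cj.symm ⟨k, trivial, j.symm⟩)).elim
  · exact (n1 (((cj_s' ⟨h0, i1⟩).top.trans ⟨k, trivial, by
      rw [map_mul, ← conj_mul, k2, ← j, ← map_mul]⟩).trans (h.fz _ i))).elim
  · exact (n2 (((cj_s' ⟨h0, i2⟩).top.trans ⟨k, trivial, by
      rw [map_mul, map_mul, ← conj_mul, ← conj_mul, k2, fix k1, ← j, ← map_mul, ← map_mul]⟩).trans (h.fz _ i))).elim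
end Pz

theorem Pz.Kv (h : Pz ι) : C1[ι v0] ≤ O[{2}ᶜ](C1[ι v0]) ⊔ N[V0.map ι] := by
  have cZ : C1[ι v0] ≤ C[zpowers (ι v0)] := (C_zpowers _).ge
  have nK := cZ.trans (cents_norm le_rfl)
  have ov := h.ord (x := v0) (by decide) (by decide)
  have ZK : zpowers (ι v0) ≤ C1[ι v0] := zpowers_le.2 (mem_C1_self _)
  have ZV : zpowers (ι v0) ≤ V0.map ι := zpowers_le.2 (mem_im (by decide))
  have m1 : ι v1 ∈ C1[ι v0] := Sv_K (mem_im (by decide))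
  have k : ∀ g ∈ C1[ι v0], (quo (zpowers (ι v0))).app g = 1 ↔ g ∈ zpowers (ι v0) := fun g a =>
    quo_one (nK a)
  have o1 : orderOf ((quo (zpowers (ι v0))).app (ι v1)) = 2 := orderOf_of_pow p2 (by
    rw [← app_pow (nK m1), pow_two, ← map_mul, show v1 * v1 = 1 by decide, map_one, app_one]) fun e => by
    rcases SE.mem_zp0 ov ((k _ m1).1 e) with i | i
    exacts [h.ne_one (by decide) i, absurd (h.inj i) (by decide)]
  have zs := H8.zstar_rel o1 (app_mem_im m1 (nK m1)) (h.sylK.im nK) fun g' a b => by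
    obtain ⟨g, a', rfl⟩ := (mem_im' (φ := quo _) nK).1 a
    have c := conj_mem (normG _ a') m1
    rw [← app_conj (nK a') (nK m1)] at b ⊢
    obtain ⟨x, d, e⟩ := (app_mem_iff (nK c) (Sv_K.trans nK) (by
      rw [quo_ker]; exact zpowers_le.2 (mem_im (by decide)))).1 b
    rw [← e]
    rcases h.iso d a' e.symm with rfl | rfl
    · rfl
    · rw [map_mul, app_mul (nK (mem_C1_self _)) (nK m1), (k _ (mem_C1_self _)).2 (mem_zpowers _), one_mul]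
  have DK : OM {2}ᶜ (zpowers (ι v0)) C1[ι v0] ≤ C1[ι v0] := OM_le ZK nK
  have nD : C1[ι v0] ≤ N[OM {2}ᶜ (zpowers (ι v0)) C1[ι v0]] := normOM nK (normG _)
  have s : Syl 2 (zpowers (ι v0)) (OM {2}ᶜ (zpowers (ι v0)) C1[ι v0]) :=
    ⟨le_OM_self _ _ _, (map_pig V0).of_le ZV, OM_idx _ _ _⟩
  have D : OM {2}ᶜ (zpowers (ι v0)) C1[ι v0] ≤ O[{2}ᶜ](C1[ι v0]) ⊔ N[V0.map ι] :=
    ((burnside p2 s (inf_le_left.trans (DK.trans cZ))).sdprod s).sup.ge.trans (sup_le_sup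
      (le_O ((O_le _ _).trans DK) (normO _ nD) (O_pig _ _)) (ZV.trans (normG _)))
  have i : ZD.Isn (C1[ι v0] ÷ zpowers (ι v0)) ((quo (zpowers (ι v0))).app (ι v1)) :=
    ⟨o1, normG _ (app_mem_im m1 (nK m1)), fun g a => ((commC _ _).le.trans zs) (comm_mem (mem_zpowers _) a)⟩
  intro g a
  obtain ⟨o, o1, c, ⟨c1, c2⟩, e⟩ := i.prod (app_mem_im a (nK a))
  obtain ⟨c, c3, rfl⟩ := (mem_im' (φ := quo _) nK).1 c1
  have : g * c⁻¹ ∈ OM {2}ᶜ (zpowers (ι v0)) C1[ι v0] := mem_pre.2 ⟨nK (mul_mem a (inv_mem c3)), by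
    rwa [app_mul (nK a) (inv_mem (nK c3)), app_inv (nK c3), e, mul_inv_cancel_right]⟩
  rw [← inv_mul_cancel_right g c]
  refine mul_mem (D this) (mem_sup_right (mem_N_of ?_))
  have j : c * ι v1 * c⁻¹ ∈ V0.map ι := by
    have := (k _ (mul_mem (conj_mem (normG _ c3) m1) (inv_mem m1))).1 (by
      rw [app_mul (nK (conj_mem (normG _ c3) m1)) (inv_mem (nK m1)), app_inv (nK m1), app_conj (nK c3) (nK m1),
        fix c2, mul_inv_cancel])
    simpa using mul_mem (ZV this) (mem_im (ι := ι) (show v1 ∈ V0 by decide))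
  have j0 : c * ι v0 * c⁻¹ ∈ V0.map ι := (fix c3).symm ▸ mem_im (by decide)
  rintro _ ⟨x, b, rfl⟩
  rcases (mem_V0 x).1 b with rfl | rfl | rfl | rfl
  exacts [by simp, j0, j, by rw [map_mul, ← conj_mul]; exact mul_mem j0 j]

theorem Pz.NV (h : Pz ι) (m : C1[ι z0] ≤ M) (m1 : N[E1.map ι] ≤ M) (m2 : N[E2.map ι] ≤ M) : N[V0.map ι] ≤ M := by
  have c1 : ∀ a ∈ M, Cj ⊤ a (ι z0) → Cj M a (ι z0) := fun a b c => by
    obtain ⟨x, x2, d⟩ := h.inv_in (rg_cen.trans m) b (by obtain ⟨g, -, e⟩ := c.symm; exact cjsq e (by decide))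
    have d' := d.trans ((h.cls x x2).mono (Nz_le.trans m))
    have e := d'.top.symm.trans c
    exact d'.trans ((d8 x x2).elim (fun a => (h.ctl1 le_top a (by decide) e).mono (inf_le_right.trans m1))
      fun a => (h.ctl2 le_top a (by decide) e).mono (inf_le_right.trans m2))
  have c2 : ∀ a ∈ M, Cj ⊤ a (ι z0) → ∀ g, g * a * g⁻¹ ∈ M → g ∈ M := fun a b c g d => by
    obtain ⟨k, k1, rfl⟩ := (c1 a b c).symm
    obtain ⟨l, l1, e⟩ := c1 _ d ((cj_g g _).symm.trans c)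
    exact (mul_mem_cancel_left l1).1 ((mul_mem_cancel_right k1).1
      (m (mem_C1.2 (mul_inv_eq_iff_eq_mul.1 (Eq.trans (by group) e)))))
  have nL : C[V0.map ι] ≤ N[V0.map ι] := cents_norm le_rfl
  have TM : T0.map ι ≤ M := (map_le _).trans (rg_cen.trans m)
  have VM : V0.map ι ≤ M ⊓ C[V0.map ι] := le_inf ((map_le _).trans (rg_cen.trans m)) (ab_V0.map ι).abel
  have TL := h.sylL.le
  have nM : M ⊓ C[V0.map ι] ≤ N[V0.map ι] := inf_le_right.trans nL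
  have k : ∀ g ∈ C[V0.map ι], (quo (V0.map ι)).app g = 1 ↔ g ∈ V0.map ι := fun g a =>
    quo_one (nL a)
  have mi : ∀ g ∈ C[V0.map ι], (quo (V0.map ι)).app g ∈ (M ⊓ C[V0.map ι]) ÷ V0.map ι ↔ g ∈ M ⊓ C[V0.map ι] :=
    fun g a => app_mem_iff (nL a) nM (by rwa [quo_ker])
  have o : ∀ x ∈ T0, x * x = 1 → x ∉ V0 → orderOf ((quo (V0.map ι)).app (ι x)) = 2 := fun x a b c =>
    orderOf_of_pow p2 (by rw [← app_pow (nL (TL (mem_im a))), pow_two, ← map_mul, b, map_one, app_one])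
      fun e => c (h.mem_iff.1 ((k _ (TL (mem_im a))).1 e))
  have mm : ∀ x ∈ T0, (quo (V0.map ι)).app (ι x) ∈ ((M ⊓ C[V0.map ι]) ÷ V0.map ι) ⊓ (C[V0.map ι] ÷ V0.map ι) :=
    fun x a => ⟨(mi _ (TL (mem_im a))).2 ⟨TM (mem_im a), TL (mem_im a)⟩, app_mem_im (TL (mem_im a)) (nL (TL (mem_im a)))⟩
  have LM : C[V0.map ι] ≤ M := (le_of_im_le (φ := quo (V0.map ι)) nL nM (by rwa [quo_ker]) (se_le (o z0 (by decide)
      (by decide) (by decide)) (o b0 (by decide) (by decide) (by decide)) (o j0 (by decide) (by decide) (by decide))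
      (mm _ (by decide)) (mm _ (by decide)) (by
        have b : ι b0 ∈ N[V0.map ι] := nL (TL (mem_im (by decide)))
        have j : ι j0 ∈ N[V0.map ι] := nL (TL (mem_im (by decide)))
        rw [← app_mul b j, ← app_mul (mul_mem b j) (mul_mem b j), ← map_mul, ← map_mul]
        rfl) fun s s1 s2 g g1 g2 => by
    obtain ⟨s, s3, rfl⟩ := (mem_im' (φ := quo _) nM).1 s1.1
    obtain ⟨g, g3, rfl⟩ := (mem_im' (φ := quo _) nL).1 g1
    rw [← app_conj (nL g3) (nM s3), mi _ (conj_mem (normG _ g3) s3.2)] at g2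
    refine (mi g g3).2 ⟨?_, g3⟩
    have s4 : s * s ∈ V0.map ι := (k _ (mul_mem s3.2 s3.2)).1 (by
      rw [app_mul (nM s3) (nM s3), ← pow_two, ← s2, pow_orderOf_eq_one])
    have s5 : s ∉ V0.map ι := fun i => by rw [(k s s3.2).2 i, orderOf_one] at s2; omega
    obtain ⟨c, c3, c4⟩ := Syl.cj_sub (h.sylL.sub (le_inf TM TL) inf_le_right) p2 (zpowers_le.2 s3)
      (pig_of_im (φ := quo (V0.map ι)) (zpowers_le.2 (nM s3)) (by
        rw [quo_ker]; exact (map_pig V0).of_le inf_le_right) (by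
        rw [im_zpowers (nM s3)]; exact pig_zpowers.2 (pie_of_pow p2 (s2 ▸ pow_orderOf_eq_one _))))
    obtain ⟨t, t1, e⟩ := c4 (mem_cj_conj.2 (mem_zpowers s))
    have cv : ∀ u ∈ V0.map ι, ∀ g ∈ C[V0.map ι], g * u * g⁻¹ = u := fun u a g b => fix (C_le_C1 a b)
    rcases d7 t t1 with i | i | ⟨u, -, u1, u2⟩
    · exact (s5 (by simpa [e, mul_assoc] using conj_mem (inv_mem (nM c3)) (mem_im (ι := ι) i))).elim
    · exact (i (h.mem_iff.1 (by rw [map_mul, e, conj_mul]; exact conj_mem (nM c3) s4))).elim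
    refine c2 (s * ι u) (mul_mem s3.1 (VM (mem_im u1)).1) (Cj.trans ⟨c, trivial, by
      rw [← conj_mul, ← e, cv _ (mem_im u1) c c3.2, map_mul]⟩ (h.fz _ u2)) g ?_
    rw [← conj_mul, cv _ (mem_im u1) g g3]
    exact mul_mem g2.1 (VM (mem_im u1)).1)).trans inf_le_left
  exact (h.sylL.frattini p2 nL (normC le_rfl)).sup.ge.trans (sup_le LM fun g a =>
    m1 (h.nT ((cj_of_mem_N a.2).le.trans (map_le _))).1)

end Cfsg.Agent.U2
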