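import Cfsg.Agent.U2.P0
import Cfsg.Agent.U2.Kv
import Cfsg.Agent.G75.B
import Cfsg.Agent.H8.SE2
import Cfsg.Agent.ZD.Fin

/-! # `O(H) = 1` -/

set_option autoImplicit false
set_option linter.unusedVariables false
set_option linter.unusedSectionVars false

namespace Cfsg.Agent.U2
open Cfsg Cfsg.Agent.BG Subgroup PHom
open Cfsg.Agent.S3F (p2)

universe u

variable {G : Type u} [Group G] [Finite G] {ι : U5 →* G} {H K M X Y : Subgroup G} {A B : Subgroup U5} {x y : U5}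
  {a b g w : G}

open Cfsg.Agent.G75 (Q Q_le Q_odd nQ)
open Cfsg.Agent.SFT (Gen le_Gen Gen_le norm_Gen)
open P0

namespace Sig
theorem cj_Q (g a : G) : BG.cj g (Q a) = Q (g * a * g⁻¹) := by rw [Q, cj_O, cj_C1]

theorem N_Gen (V : Subgroup G) : N[V] ≤ N[Gen V Q] := fun g hg =>
  mem_N_of_cj_le (cj_le_iff.2 (Gen_le fun a ha a1 => cj_le_iff.1 (by
    rw [cj_Q]; exact le_Gen (conj_mem hg ha) (by simpa using a1))))

theorem C1_le (e : Cj M a b) (l : C1[b] ≤ M) : C1[a] ≤ M := by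
  obtain ⟨g, hg, rfl⟩ := e.symm
  rw [← cj_C1]
  exact cj_le_of_mem l (normG _ hg)

theorem e1 : ∀ x ∈ R8, x ≠ 1 → tv x := by decide +kernel
theorem e2 : ∀ b ∈ E1, ∀ j ∈ E2, b * j * b⁻¹ * j⁻¹ ∈ R4 → b * j * b⁻¹ * j⁻¹ ≠ 1 → b.e = false := by decide +kernel
theorem e3 : ∀ b ∈ E1, b.e = false → ∀ j ∈ E2, b * j * b⁻¹ * j⁻¹ ∈ R4 := by decide +kernel
theorem e4 : ∀ x ∈ R4, x ∉ Z0 → tv x ∧ x ∈ U0 ∧ x ≠ z0 ∧ x ≠ 1 ∧ h0 ≠ x ∧ h0 ≠ x * z0 ∧
    ∃ j ∈ E2, b0 * j * b0⁻¹ * j⁻¹ = x := by decide +kernel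
theorem e5 : ∀ y ∈ R4, y ≠ 1 → y ≠ z0 → (c0 = y ∨ c0 = y * z0) ∧ ∀ u ∈ R4, u = 1 ∨ u = z0 ∨ u = y ∨ u = z0 * y := by
  decide +kernel
theorem e6 : ∀ x, x ∈ E1 → x ∈ E2 → x ∈ U0 := by decide +kernel
theorem e7 : ∀ x, x * x = 1 → rep x ∈ [1, z0, c0, h0, v0, f0, f0 * z0, f0 * b0, f0 * j0] := by decide +kernel
theorem E_T : E1 ≤ T0 ∧ E2 ≤ T0 := ⟨le_of (by decide +kernel), le_of (by decide +kernel)⟩
theorem W_le : W8 ≤ E1 ∧ W8 ≤ E2 ∧ W8 ≤ Q0 ∧ R4 ≤ W8 ∧ R4 ≤ R8 ∧ W8 ≤ Sv :=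
  ⟨le_of (by decide +kernel), le_of (by decide +kernel), le_of (by decide +kernel), le_of (by decide +kernel),
    le_of (by decide +kernel), le_of (by decide +kernel)⟩
theorem E_c (h : a ∈ R8.map ι) : E1.map ι ≤ C1[a] := (ab_E1.map ι).abel.trans (C_le_C1 (map_mono R8_E h))

theorem Pull.comm {σ : U5 → U5} (q : Pull ι g A σ) (a : x ∈ A) (b : y ∈ A) (h : TM ι) :
    σ (x * y * x⁻¹ * y⁻¹) = σ x * σ y * (σ x)⁻¹ * (σ y)⁻¹ := h.inj (by
  rw [q.eq _ (mul_mem (mul_mem (mul_mem a b) (inv_mem a)) (inv_mem b))]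
  simp only [map_mul, map_inv, q.eq x a, q.eq y b]
  group)
end Sig
open Sig

namespace Pz
variable (h : Pz ι)
include h

theorem bal (ha : a ∈ R8.map ι) (a1 : a ≠ 1) (l : X ≤ C1[a]) (od : PiG {2}ᶜ X) (n : E1.map ι ≤ N[X]) : X ≤ Q a := by
  obtain ⟨x, b, rfl⟩ := ha
  obtain ⟨g, e, d⟩ := h.toZ (h.fz x (e1 x b fun e => a1 (e ▸ map_one ι)))
  have m := h.n1 ((cj_mono _ (map_mono (ab_E1.abel.trans (C_le_C1 (R8_E b))))).trans d)
  have n' := norm_cj (g := g).2 n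
  rw [cj_of_mem_N m] at n'
  rw [← cj_le_cj (g := g), cj_Q, e]
  exact h.p0 (x := h0) (by decide) (by decide) (by rw [← e, ← cj_C1]; exact cj_mono _ l) (od.cj g)
    (n' (mem_im (by decide))) (n' (mem_im (by decide)))

theorem W_odd : PiG {2}ᶜ (Gen (R8.map ι) Q) :=
  SFT.famp (SFT.complete (θ := Q) ⟨abelem_iff.1 (ab_R8.map ι), fun e _ _ => Q_le e,
    fun e _ _ => (pin_compl_cop p2).1 (Q_odd e), fun e he _ => nQ ((map_mono R8_E).trans (E_c he)),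
    fun e he e1 f hf f1 => h.bal hf f1 inf_le_right ((Q_odd e).of_le inf_le_left)
      (normI (nQ (E_c he)) (normsG (E_c hf))),
    fun e _ _ => H8.sol_of_odd (Q_odd e)⟩ (by rw [h.card, card_R8]; omega))

theorem le_W (od : PiG {2}ᶜ X) (n : W8.map ι ≤ N[X]) : X ≤ Gen (R8.map ι) Q := by
  have ab := (ab_W8.of_le W_le.2.2.2.1).map ι
  refine cop_gen_cent1 ab.abel (GF.nc_of_four ab (by rw [h.card, card_R4])) ((map_mono W_le.2.2.2.1).trans n)
    ((map_pig _).coprime od) fun a ha a1 => le_trans ?_ (le_Gen (map_mono W_le.2.2.2.2.1 ha) a1)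
  have n' : W8.map ι ≤ N[X ⊓ C1[a]] :=
    normI n (normsG ((ab_W8.map ι).abel.trans (C_le_C1 (map_mono W_le.2.2.2.1 ha))))
  obtain ⟨x, b, rfl⟩ := ha
  by_cases c : x ∈ Z0
  · rw [((mem_Z0 x).1 c).resolve_left fun e => a1 (e ▸ map_one ι)] at n' ⊢
    exact h.p0 (x := h0) (by decide) (by decide) inf_le_right (od.of_le inf_le_left) (n' (mem_im (by decide)))
      (n' (mem_im (by decide)))
  obtain ⟨t1, t2, t3, t4, t5, t6, j, j1, j2⟩ := e4 x b c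
  obtain ⟨g, hg, e⟩ := h.ctlU le_top t2 (by decide) (h.fz x t1)
  obtain ⟨σ, q, s1, s2, -⟩ := h.pullT hg.2
  have xT := E_T.1 (U_E t2)
  have ex : σ x = z0 := h.inj ((q.eq x xT).trans e)
  have bT : b0 ∈ T0 := by decide
  have zT : z0 ∈ T0 := by decide
  have hT : h0 ∈ T0 := by decide
  have f := Pull.comm q bT (E_T.2 j1) h.toTM
  rw [j2, ex] at f
  have zR : σ z0 ∈ R4 := by
    rw [show z0 = b0 * j0 * b0⁻¹ * j0⁻¹ by decide, Pull.comm q bT (by decide) h.toTM]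
    exact e3 _ (s1 _ (by decide)) (e2 _ (s1 _ (by decide)) _ (s2 _ j1) (f ▸ by decide) (f ▸ by decide)) _
      (s2 _ (by decide))
  obtain ⟨i1, i2⟩ := e5 _ zR (q.ne1 zT (by decide)) (fun i => q.ne zT xT t3.symm (i.trans ex.symm))
  have lz : BG.cj g (X ⊓ C1[ι x]) ≤ C1[ι z0] := by rw [← e, ← cj_C1]; exact cj_mono _ inf_le_right
  have m : ∀ y ∈ W8, ι (σ y) ∈ N[BG.cj g (X ⊓ C1[ι x])] := fun y a => norm_cj.2 n' (by
    rw [q.eq y (E_T.1 (W_le.1 a))]; exact mem_cj_conj.2 (mem_im a))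
  rw [← cj_le_cj (g := g), cj_Q, e]
  refine h.p0 (e6 _ (s1 h0 (by decide)) (s2 h0 (by decide))) (fun k => ?_) lz ((od.of_le inf_le_left).cj g) ?_
    (m h0 (by decide))
  · rcases i2 _ k with i | i | i | i
    · exact q.ne1 hT (by decide) i
    · exact q.ne hT xT t5 (i.trans ex.symm)
    · exact q.ne hT zT (by decide) i
    · exact q.ne hT (mul_mem xT zT) t6 (by rw [i, q.mul x xT z0 zT, ex])
  · rcases i1 with i | i
    · exact i ▸ m z0 (by decide)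
    · rw [i, map_mul]
      exact mul_mem (m z0 (by decide)) (cents_norm (cent_symm (C_zpowers (ι z0) ▸ lz)) (mem_zpowers _))

theorem N_W (l : W8 ≤ A) : N[A.map ι] ≤ N[Gen (R8.map ι) Q] := fun g hg =>
  mem_N_of_cj_le (h.le_W (h.W_odd.cj g) ((map_mono l).trans (by
    rw [← cj_of_mem_N hg]
    exact norm_cj.2 ((map_le _).trans ((rg_norm n_R8).trans (N_Gen _))))))

theorem H_W : C1[ι z0] ≤ N[Gen (R8.map ι) Q] :=
  h.nq.trans (sup_le ((le_Gen (θ := Q) (mem_im (by decide)) (h.ne_one (by decide))).trans (normG _))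
    (inf_le_right.trans (h.N_W W_le.2.2.1)))

theorem K_W : C1[ι v0] ≤ N[Gen (R8.map ι) Q] :=
  h.Kv.trans (sup_le ((h.le_W (O_pig _ _) (((map_mono (C_v ▸ W_le.2.2.2.2.2)).trans (map_C1 v0)).trans
    (O_norm _ _))).trans (normG _)) (h.NV h.H_W (h.N_W W_le.1) (h.N_W W_le.2.1)))

theorem ctrl (a : x ∈ E1 ∨ x ∈ E2) (e : Cj ⊤ (ι x) (ι z0)) : Cj N[Gen (R8.map ι) Q] (ι x) (ι z0) :=
  a.elim (fun a => (h.ctl1 le_top a (by decide) e).mono (inf_le_right.trans (h.N_W W_le.1)))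
    fun a => (h.ctl2 le_top a (by decide) e).mono (inf_le_right.trans (h.N_W W_le.2.1))

theorem zr (a : x ∈ [1, z0, c0, h0, v0, f0, f0 * z0, f0 * b0, f0 * j0]) (n : x ≠ z0) (e : Cj ⊤ (ι x) (ι z0)) :
    C1[ι (z0 * x)] ≤ N[Gen (R8.map ι) Q] := by
  simp only [List.mem_cons, List.not_mem_nil, or_false] at a
  rcases a with rfl | rfl | rfl | rfl | rfl | rfl | rfl | rfl | rfl
  · exact (h.ne_one (x := z0) (by decide) (by obtain ⟨g, -, e⟩ := e; simpa using e.symm)).elim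
  · exact (n rfl).elim
  · exact C1_le (h.ctrl (by decide) (h.fz _ (by decide))) h.H_W
  · exact C1_le (h.ctrl (by decide) (h.fz _ (by decide))) h.H_W
  · exact (h.rk (by decide) (by decide) e.symm).elim
  · exact C1_le ((show f0 * z0 = z0 * f0 by decide) ▸ h.fv.mono (inf_le_left.trans (h.N_W W_le.1))) h.K_W
  · exact (h.rk (by decide) (by decide) e.symm).elim
  · exact C1_le (h.ctrl (by decide) ((cj_s' ⟨j0, by decide⟩).top.trans e)) h.H_W
  · exact C1_le (h.ctrl (by decide) ((cj_s' ⟨b0, by decide⟩).top.trans e)) h.H_W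
end Pz

theorem Pz.O_bot [IsSimpleGroup G] (h : Pz ι) : O[{2}ᶜ](C1[ι z0]) = ⊥ := by
  have m1 := h.H_W
  have oz := h.ord (x := z0) (by decide) (by decide)
  have e : N[Gen (R8.map ι) Q] = ⊤ := by_contra fun n => by
    have se := ZD.s1175 n oz (m1 (mem_C1_self _)) h.syl rg_cen (fun g a => by
      obtain ⟨x, x2, c⟩ := h.inv_in (rg_cen.trans m1) a (cjsq rfl (by decide))
      have c' := c.trans ((h.cls x x2).mono (Nz_le.trans m1))
      obtain ⟨k, hk, f⟩ := c'.trans (h.ctrl ((by decide +kernel :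
        ∀ y ∈ [1, z0, c0, h0, v0, f0, f0 * z0, f0 * b0, f0 * j0], y ∈ E1 ∨ y ∈ E2) _ (e7 x x2))
        ((cj_g g _).trans c'.top).symm)
      exact (mul_mem_cancel_left hk).1 (m1 (mem_C1.2 (mul_inv_eq_iff_eq_mul.1 (Eq.trans (by group) f)))))
      fun g a b => by
      obtain ⟨x, x2, c⟩ := h.inv_in rg_cen (w := g * ι z0 * g⁻¹) (mem_C1.2 a.symm) (cjsq rfl (by decide))
      obtain ⟨k, hk, c⟩ := c.trans ((h.cls x x2).mono Nz_le)
      have ek : k * ι z0 * k⁻¹ = ι z0 := mul_inv_eq_iff_eq_mul.2 (mem_C1.1 hk)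
      exact C1_le ⟨k, m1 hk, by rw [map_mul, ← conj_mul, c, ek]⟩ (h.zr (e7 x x2)
        (fun i => b (by simpa using c.trans ((congrArg ι i).trans ek.symm))) ((cj_g g _).trans ⟨k, trivial, c⟩).symm)
    exact h.rk (x := z0) (y := v0) (by decide) (by decide)
      (cj_iff.2 (Inv.se_isConj se oz (h.ord (by decide) (by decide))))
  have l : Q (ι z0) ≤ Gen (R8.map ι) Q := le_Gen (mem_im (by decide)) (h.ne_one (by decide))
  rcases (normal_iff.2 e.ge).eq_bot_or_eq_top with i | i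
  · exact le_bot_iff.1 (i ▸ l)
  · exact (h.ne_one (show z0 ≠ 1 by decide) (((map_pig Z0).elt (mem_im (by decide))).eq_one
      (h.W_odd.elt (i ▸ mem_top _)))).elim

end Cfsg.Agent.U2
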