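import Cfsg.Agent.U2.Wk

/-! # Normalising the embedding -/

set_option autoImplicit false
set_option linter.unusedVariables false
set_option linter.unusedSectionVars false

namespace Cfsg.Agent.U2
open Cfsg Cfsg.Agent.BG Subgroup PHom
open Cfsg.Agent.S3F (p2)

universe u

variable {G : Type u} [Group G] [Finite G] {ι : U5 →* G} {H K M X Y : Subgroup G} {A B : Subgroup U5} {x y : U5}
  {a b g w : G}

namespace Xa
variable {k : G} {x' y' : U5} {α : U5 ≃* U5} {σ : U5 → U5}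

/-- a table of conjugating elements, ten bits per element -/
def tab : ℕ := 0x1810000000000001840018500000000000018000000000000000000000000000000000000000000000000000000000000000000000000000000000001a03800034000000a4000a02800024000000a00008500000000000008400081000000000000080000000000000000000000000000000000000000000000000000000000000000000000000000000003c1800000000000300842c080000000000020080000000000000000000000000000000000000000000000000000000000000000000000000000000000000000000000000000000000000000000000000000000000000000000000000000000000000000000000000000000000000000000000000000000000000000000000000000000000000000000000000000000000000000000000000000000000000000000000000000000000000000000000000000000000000000000000000000000000000000000000000000000000000000000000000000000000000000000000000000010100104000000000000105001001c0001800000120000240c00008000000200002000000000000000000000000000000000000000000000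000000000000000000000000000000000000000000000000005000040000000000000010000000000000001410010004000000000004000000000000000000000000000000000000000000000000848000021294000002108c000002128400000210000000000000000000000000000000000000000000000002020000000201000000020300000002000000000000000000000000000000000000000000000000021200000002130000000211000000021000000000000000000000000000000000000000000000080a020000090200000008820200000802000000000000000000000000000000000000000000000000020100000002020000000203000000020000000000000000000000000000000000000000001c0000021014000000120c00000010040000001000000000000000000000000000000000000000000000000003000000000200000000010000000000000000000000000000000000000000000000000000000182000000010002000000800000000000000000000000000000000000000000000000000000000000001100000000130000000012000000001000000000000000000000000000000000000000000000000003000000000100000000020000000000000000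00000000000000000000000000000000001c0000001214000000100c0000001204000000100000000000000000000000000000000000000000000001800200000100000000008002000000000000181003800018100180001810018000381001800020100201003000020000280002010020000200001010030000101001000030100100001010010000180002000010000001000800000000000000000008100280002810008000081000800008100080001800000100100000000008000001000000000000201002000000100000000010000000001000001c1801820014100100000c080080000400000000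
def en (x : U5) : ℕ := cond x.a 1 0 + cond x.b 2 0 + cond x.c 4 0 + cond x.z 8 0 + cond x.e 16 0 + cond x.f 32 0 +
  cond x.h 64 0 + cond x.i 128 0 + cond x.j 256 0 + cond x.k 512 0
def de (n : ℕ) : U5 := ⟨n.testBit 0, n.testBit 1, n.testBit 2, n.testBit 3, n.testBit 4, n.testBit 5, n.testBit 6,
  n.testBit 7, n.testBit 8, n.testBit 9⟩
def cr (x : U5) : U5 := de (tab >>> (10 * en x))
/-- the representative of the `S`-class of an involution -/
def sr (x : U5) : U5 := cr x * x * (cr x)⁻¹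
def L : List U5 := [1, z0, c0, h0, v0, b0, j0, b0 * h0, c0 * j0, a0, k0, a0 * k0, a0 * j0, b0 * k0, f0, f0 * z0, f0 * b0,
  f0 * j0, e0, e0 * z0, e0 * k0, c0 * e0, i0, i0 * z0, h0 * i0, a0 * i0]
theorem cl : ∀ x : U5, x * x = 1 → sr x ∈ L ∧ rep (sr x) = rep x := by decide +kernel

def R (ι : U5 →* G) (x y : U5) : Prop := Cj (Nz ι) (ι x) (ι y)
theorem R.s (x : U5) : R ι x (sr x) := (cj_s x _).mono rg_Nz
theorem R.tr {w : U5} (h : R ι x y) (h' : R ι y w) : R ι x w := h.trans h'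
theorem R.sy (h : R ι x y) : R ι y x := h.symm
theorem R.of (h : R ι x y) (a : sr x = sr x' := by decide +kernel) (b : sr y = sr y' := by decide +kernel) : R ι x' y' :=
  ((R.s x').tr (a ▸ (R.s x).sy)).tr (h.tr ((R.s y).tr (b ▸ (R.s y').sy)))
theorem R.to (h : R ι x y) (b : sr y = y') (a : sr x = sr x' := by decide +kernel) : R ι x' y' :=
  ((R.s x').tr (a ▸ (R.s x).sy)).tr (h.tr (b ▸ R.s y))
theorem cjz (l : K ≤ C1[ι z0]) (h : Cj K (ι x) (ι y)) : Cj K (ι (x * z0)) (ι (y * z0)) := by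
  obtain ⟨g, m, e⟩ := h
  exact ⟨g, m, by rw [map_mul, map_mul, ← e, ← conj_mul, mem_C1.1 (l m), mul_inv_cancel_right]⟩

theorem ncv (h : TM ι) : ¬ R ι c0 v0 := fun e => h.rk (by decide) (by decide) e.top
theorem nhv (h : TM ι) : ¬ R ι h0 v0 := fun e => h.rk (by decide) (by decide) e.top
theorem nch (h : TM ι) : ¬ R ι c0 h0 := fun e => by
  obtain ⟨g, m, e⟩ := h.ctlU rg_cen (by decide) (by decide) (e.mono Nz_le)
  have := (mem_N.1 (h.nRL m.1 m.2).1 _).1 (mem_im (by decide : c0 ∈ R4))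
  rw [e, h.mem_iff] at this
  exact absurd this (by decide)

abbrev cp (ι : U5 →* G) (α : U5 ≃* U5) : U5 →* G := ι.comp α.toMonoidHom
def Au (α : U5 ≃* U5) : Prop := α z0 = z0 ∧ (∀ x, x ∈ Q0 ↔ α x ∈ Q0) ∧ ∀ x, x ∈ Qf ↔ α x ∈ Qf
theorem Au.z (a : Au α) : cp ι α z0 = ι z0 := congrArg ι a.1
theorem Au.nz (a : Au α) : Nz (cp ι α) = Nz ι := by rw [Nz, map_comp α a.2.1, a.z, Nz]
def bf (x : U5) : U5 := ⟨x.a, x.b, x.c, x.z ^^ x.e, x.e, x.f, x.h, x.i, x.j, x.k⟩
/-- the central automorphism `e ↦ e z` -/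
def bet : U5 ≃* U5 := aut bf (by decide +kernel) (by decide) (by decide +kernel)
theorem au_gam : Au gam := by unfold Au; decide +kernel
theorem au_tau : Au tau := by unfold Au; decide +kernel
theorem au_bet : Au bet := by unfold Au; decide +kernel
theorem R.gam (h : R (cp ι gam) x y) : R ι (gam x) (gam y) := by rw [R, au_gam.nz] at h; exact h

def D (ι : U5 →* G) (g : G) (A : Subgroup U5) (e : U5) : Prop :=
  g ∈ Nz ι ⊓ N[A.map ι] ∧ ∃ x ∈ Qf, x ∉ Q0 ∧ g * ι e * g⁻¹ = ι x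
theorem D.map (d : D ι g A x) (a : Au α) (hA : ∀ x, x ∈ B ↔ α x ∈ A) (he : α y = x ∨ α y = x * z0) : D (cp ι α) g B y := by
  obtain ⟨m, t, x1, x2, x3⟩ := d
  have : ∀ t ∈ Qf, t ∉ Q0 → g * ι (α y) * g⁻¹ = ι t → D (cp ι α) g B y := fun t x1 x2 x3 =>
    ⟨by rw [a.nz, map_comp α hA]; exact m, α.symm t, (a.2.2 _).2 (by simpa using x1),
      fun b => x2 (by simpa using (a.2.1 _).1 b), x3.trans (congrArg ι (α.apply_symm_apply t).symm)⟩
  rcases he with he | he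
  · exact this t x1 x2 (he ▸ x3)
  · exact this (t * z0) (mul_mem x1 (by decide)) (fun b => x2 ((mul_mem_cancel_right (by decide : z0 ∈ Q0)).1 b))
      (by rw [he, map_mul, map_mul, ← x3, ← conj_mul, mem_C1.1 m.1.1, mul_inv_cancel_right])

structure St (ι : U5 →* G) (g k : G) : Prop where
  tm : TM ι
  nq : C1[ι z0] ≤ O[{2}ᶜ](C1[ι z0]) ⊔ Nz ι
  d1 : D ι g Q1 e0
  d2 : D ι k Q2 i0
theorem St.map (s : St ι g k) (a : Au α) (h : (∀ x, x ∈ Q1 ↔ α x ∈ Q1) ∧ (∀ x, x ∈ Q2 ↔ α x ∈ Q2) ∧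
    (α e0 = e0 ∨ α e0 = e0 * z0) ∧ (α i0 = i0 ∨ α i0 = i0 * z0)) : St (cp ι α) g k :=
  ⟨s.tm.comp α, by rw [a.nz, a.z]; exact s.nq, s.d1.map a h.1 h.2.2.1, s.d2.map a h.2.1 h.2.2.2⟩
theorem St.sw (s : St ι g k) : St (cp ι gam) k g :=
  ⟨s.tm.comp _, by rw [au_gam.nz, au_gam.z]; exact s.nq, s.d2.map au_gam (by decide +kernel) (by decide +kernel),
    s.d1.map au_gam (by decide +kernel) (by decide +kernel)⟩

structure PD (ι : U5 →* G) (g : G) (σ : U5 → U5) : Prop extends Pull ι g Q1 σ where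
  m : g ∈ Nz ι ⊓ N[Q1.map ι]
  q0 : ∀ x ∈ Q1, σ x ∈ Q0 ↔ x ∈ Q0
  q1 : ∀ x ∈ Q1, σ x ∈ Q1
  z : σ z0 = z0
  e : σ e0 ∈ Qf
theorem St.pd (s : St ι g k) : ∃ σ, PD ι g σ := by
  obtain ⟨m, t, x1, x2, x3⟩ := s.d1
  obtain ⟨σ, q⟩ := s.tm.pull (A := Q1) (cj_le_of_mem le_rfl m.2 |>.trans (map_le _))
  refine ⟨σ, q, m, fun x a => ?_, fun x a => ?_, s.tm.inj ?_, ?_⟩
  · rw [← s.tm.mem_iff, q.eq x a, ← mem_N.1 m.1.2, s.tm.mem_iff]
  · rw [← s.tm.mem_iff, q.eq x a, ← mem_N.1 m.2, s.tm.mem_iff]; exact a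
  · rw [q.eq _ (by decide), mem_C1.1 m.1.1, mul_inv_cancel_right]
  · rwa [s.tm.inj ((q.eq e0 (by decide)).trans x3)]

theorem kE : ∀ E ∈ Qf, E ∉ Q0 → E * E = 1 → ∀ x ∈ Q0,
    x * E * (x * E) ∈ W8 ∧ (x * E * (x * E)).c = x.a ∧ (x * E * (x * E)).h = x.k := by decide +kernel
theorem kF : ∀ F ∈ Q1, F ∉ Qf → F * F = 1 → ∀ x ∈ Q0, (x * F * (x * F) ∈ E1 ∧ x * F * (x * F) ∈ Q0) ∧
    (x * F * (x * F)).b = x.a ∧ (x * F * (x * F)).c = (x.a && F.f) ∧ (x * F * (x * F)).h = (x.j ^^ (x.k && F.f)) := by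
  decide +kernel
theorem kEF (a : x ∈ Qf) (b : x ∉ Q0) (c : y ∈ Qf) (d : y ∉ Q0) : x * y ∈ Q0 := by
  change pQ0 (U5.mul x y) = true
  change pQf x = true at a
  change pQf y = true at c
  change ¬ pQ0 x = true at b
  change ¬ pQ0 y = true at d
  simp_all [pQ0, pQf, U5.mul]
theorem s2 : ∀ H ∈ W8, H.b = false ∧ (H.c = false → H ≠ 1 → H ≠ z0 → H = h0 ∨ H = h0 * z0) := by decide +kernel
theorem s3 : ∀ H, H = h0 ∨ H = h0 * z0 → ∀ B ∈ W8, B ≠ 1 → B ≠ z0 → B ≠ H → B ≠ H * z0 →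
    (B = c0 ∨ B = c0 * z0) ∨ (B * H * z0 = tau c0 ∨ B * H * z0 = tau (c0 * z0)) := by decide +kernel
theorem s4 : ∀ K ∈ Q0, K * K = 1 → K.a = false → K.k = false → K.j = true → K ∈ L8 ∨ sr K = c0 * j0 ∧
    (∀ B, B = c0 ∨ B = c0 * z0 → sr (K * B) = j0) ∧
    ∀ J ∈ Q0, J * J = 1 → J.a = false → J.k = true → J * K * (J * K) = 1 → sr J = k0 ∨ sr (J * K) = b0 * k0 := by
  decide +kernel
theorem s5 : ∀ K ∈ L8, K.j = true → sr K = j0 ∧ ∀ B, B = c0 ∨ B = c0 * z0 → sr (K * B) = c0 * j0 := by decide +kernel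
theorem s6 : ∀ A ∈ Q0, A * A = 1 → A.a = true → A.k = false → (A ∈ A1 ∧ A.j = false) ∨ sr A = a0 * j0 := by decide +kernel
theorem s7 : ∀ A ∈ A1, A.a = true → ∀ K ∈ L8, K.j = true → A * K * (A * K) = 1 → sr (A * K) = a0 * j0 := by decide +kernel
theorem s8 : ∀ E ∈ Qf, E ∉ Q0 → E * E = 1 → ∀ K ∈ L8, K.j = true → E * K = K * E → ∀ C ∈ E1, C ∈ Q0 → C.b = true →
    C.h = false → C * E = E * C → sr (E * K) = f0 * j0 ∧ sr (C * E) = f0 * b0 ∧ (sr E = f0 ∨ sr E = f0 * z0) := by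
  decide +kernel

namespace PD
variable (q : PD ι g σ)
include q
theorem r (x : U5) (a : x ∈ Q1 := by decide) : R ι x (σ x) := q.cj q.m.1 a
theorem r2 (x y : U5) (a : x ∈ Q1 := by decide) (b : y ∈ Q1 := by decide) : R ι (x * y) (σ x * σ y) :=
  q.mul x a y b ▸ q.r _ (mul_mem a b)
theorem s2 (x y w : U5) (e : x * y * (x * y) = w := by decide) (a : x ∈ Q1 := by decide) (b : y ∈ Q1 := by decide) :
    σ x * σ y * (σ x * σ y) = σ w := by rw [← q.mul x a y b, q.sq (mul_mem a b) e]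
theorem i (x : U5) (e : x * x = 1 := by decide) (a : x ∈ Q1 := by decide) : σ x * σ x = 1 := q.sq1 a e
theorem q' (x : U5) (e : x ∈ Q0 := by decide) (a : x ∈ Q1 := by decide) : σ x ∈ Q0 := (q.q0 x a).2 e
theorem n (x y : U5) (e : x ≠ y := by decide) (a : x ∈ Q1 := by decide) (b : y ∈ Q1 := by decide) : σ x ≠ σ y :=
  q.ne a b e
theorem e' : σ e0 ∉ Q0 := fun a => absurd ((q.q0 _ (by decide)).1 a) (by decide)
theorem kE (x w : U5) (e : x * e0 * (x * e0) = w := by decide) (a : x ∈ Q1 := by decide) (b : x ∈ Q0 := by decide) :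
    σ w ∈ W8 ∧ (σ w).c = (σ x).a ∧ (σ w).h = (σ x).k :=
  q.s2 x e0 w e a ▸ Xa.kE _ q.e q.e' (q.i _) _ (q.q' x b a)
theorem kF (x w : U5) (e : x * f0 * (x * f0) = w := by decide) (a : x ∈ Q1 := by decide) (b : x ∈ Q0 := by decide) :
    (σ w ∈ E1 ∧ σ w ∈ Q0) ∧ (σ w).b = (σ x).a ∧ (σ w).c = ((σ x).a && (σ f0).f) ∧
      (σ w).h = ((σ x).j ^^ ((σ x).k && (σ f0).f)) :=
  q.s2 x f0 w e a ▸ Xa.kF _ (q.q1 _ (by decide)) (fun c => by
    have := kEF q.e q.e' c fun a => absurd ((q.q0 _ (by decide)).1 a) (by decide)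
    rw [← q.mul _ (by decide) _ (by decide), q.q0 _ (by decide)] at this
    exact absurd this (by decide)) (q.i _) _ (q.q' x b a)
theorem h : σ h0 = h0 ∨ σ h0 = h0 * z0 := by
  have a := q.kE j0 h0
  have b := q.kF k0 h0
  refine (Xa.s2 _ a.1).2 ?_ (q.one ▸ q.n h0 1) (q.z ▸ q.n h0 z0)
  rw [b.2.2.1, ← b.2.1, (Xa.s2 _ a.1).1]; rfl
end PD

def Bz (ι : U5 →* G) (g : G) (b c : U5) : Prop := g * ι b * g⁻¹ = ι c ∨ g * ι b * g⁻¹ = ι (c * z0)
theorem St.t (s : St ι g k) : ∃ ι' : U5 →* G, St ι' g k ∧ Bz ι' g b0 c0 ∧ (Bz ι k j0 h0 → Bz ι' k j0 h0) := by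
  obtain ⟨σ, q⟩ := s.pd
  rcases s3 _ q.h _ (q.kE a0 b0).1 (q.one ▸ q.n b0 1) (q.z ▸ q.n b0 z0) (q.n b0 h0)
    (by rw [← q.z, ← q.mul _ (by decide) _ (by decide)]; exact q.n _ _) with e | e
  · exact ⟨ι, s, e.imp (fun e => (q.eq _ (by decide)).symm.trans (congrArg ι e)) (fun e => (q.eq _ (by decide)).symm.trans (congrArg ι e)), id⟩
  · rw [← q.z, ← q.mul _ (by decide) _ (by decide), ← q.mul _ (by decide) _ (by decide), q.z] at e
    have := (q.eq (b0 * h0 * z0) (by decide)).symm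
    exact ⟨cp ι tau, s.map au_tau (by decide +kernel), e.imp (fun e => this.trans (congrArg ι e))
      (fun e => this.trans (congrArg ι e)), id⟩

structure S2 (ι : U5 →* G) (g k : G) : Prop extends St ι g k where
  b1 : Bz ι g b0 c0
  b2 : Bz ι k j0 h0
namespace S2
variable (s : S2 ι g k)
include s
theorem sw : S2 (cp ι gam) k g := ⟨s.toSt.sw, s.b2, s.b1⟩
theorem bb (q : PD ι g σ) : σ b0 = c0 ∨ σ b0 = c0 * z0 :=
  s.b1.imp (fun e => s.tm.inj ((q.eq _ (by decide)).trans e)) (fun e => s.tm.inj ((q.eq _ (by decide)).trans e))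
theorem t3 : R ι b0 c0 ∧ R ι (b0 * h0) v0 := by
  obtain ⟨σ, q⟩ := s.pd
  have a := q.r b0
  have b := q.r2 b0 h0
  rcases s.bb q with e | e <;> rcases q.h with e' | e' <;> rw [e] at a b <;> rw [e'] at b <;> exact ⟨a.of, b.of⟩
theorem t3' : R ι j0 h0 ∧ R ι (c0 * j0) v0 := ⟨s.sw.t3.1.gam.of, s.sw.t3.2.gam.of⟩
theorem t4 (q : PD ι g σ) : σ k0 ∈ L8 ∧ (σ k0).j = true := by
  have a := q.kE k0 1
  have b := q.kF k0 h0
  have c := q.kE j0 h0
  have h : (σ h0).c = false ∧ (σ h0).h = true := by rcases q.h with e | e <;> rw [e] <;> decide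
  rw [q.one] at a
  have j : (σ k0).j = true := by rw [← h.2, b.2.2.2, ← a.2.2]; simp [show (1 : U5).h = false from rfl]
  refine ⟨(s4 _ (q.q' _) (q.i _) a.2.1.symm a.2.2.symm j).resolve_right fun ⟨e1, e2, e3⟩ => nhv s.tm ?_, j⟩
  have r1 : R ι k0 v0 := ((q.r k0).to e1).tr s.t3'.2
  rcases e3 _ (q.q' j0) (q.i _) (c.2.1 ▸ h.1) (c.2.2 ▸ h.2) ((q.s2 j0 k0 1).trans q.one) with e | e
  · exact s.t3'.1.sy.tr (((q.r j0).to e).tr r1)
  · exact (((q.r2 k0 b0).to (e2 _ (s.bb q))).tr s.t3'.1).sy.tr (((q.r2 j0 k0).to e).sy.tr r1)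
theorem t5 : R ι k0 h0 ∧ R ι (b0 * k0) v0 := by
  obtain ⟨σ, q⟩ := s.pd
  have a := s5 _ (s.t4 q).1 (s.t4 q).2
  exact ⟨((q.r k0).to a.1).tr s.t3'.1, ((q.r2 k0 b0).to (a.2 _ (s.bb q))).tr s.t3'.2⟩
theorem t5' : R ι a0 c0 ∧ R ι (a0 * j0) v0 := ⟨s.sw.t5.1.gam.of, s.sw.t5.2.gam.of⟩
theorem t6 : R ι (a0 * k0) v0 ∧ R ι (e0 * k0) (f0 * j0) ∧ R ι (c0 * e0) (f0 * b0) ∧
    (Cj (Nz ι ⊓ N[Q1.map ι]) (ι e0) (ι f0) ∨ Cj (Nz ι ⊓ N[Q1.map ι]) (ι (e0 * z0)) (ι f0)) := by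
  obtain ⟨σ, q⟩ := s.pd
  have a := q.kE a0 b0
  have c := q.kF a0 c0
  obtain ⟨k1, k2⟩ := s.t4 q
  have b : (σ b0).c = true ∧ (σ b0).h = false := by rcases s.bb q with e | e <;> rw [e] <;> decide
  rw [a.2.1, a.2.2] at b
  have a1 := (s6 _ (q.q' a0) (q.i _) b.1 b.2).resolve_right fun e =>
    ncv s.tm (s.t5'.1.sy.tr (((q.r a0).to e).tr s.t5'.2))
  obtain ⟨e1, e2, e3⟩ := s8 _ q.e q.e' (q.i _) _ k1 k2 (q.cm (by decide) (by decide) (by decide)) _ c.1.1 c.1.2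
    (c.2.1.trans b.1) (by rw [c.2.2.2, a1.2, b.2]; rfl) (q.cm (by decide) (by decide) (by decide))
  have r : Cj (Nz ι ⊓ N[Q1.map ι]) (ι e0) (ι (sr (σ e0))) :=
    (q.cj q.m (by decide)).trans ((cj_s _ _).mono (le_inf rg_Nz (rg_norm n_Q1)))
  exact ⟨((q.r2 a0 k0).to (s7 _ a1.1 b.1 _ k1 k2 ((q.s2 a0 k0 1).trans q.one))).tr s.t5'.2, (q.r2 e0 k0).to e1,
    (q.r2 c0 e0).to e2, e3.imp (fun e => by rwa [e] at r) fun e => by
      rw [e] at r; exact cjz (inf_le_left.trans Nz_le) r⟩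
theorem t : ∃ ι' : U5 →* G, S2 ι' g k ∧ Cj (Nz ι' ⊓ N[Q1.map ι']) (ι' e0) (ι' f0) ∧
    (Cj (Nz ι ⊓ N[Q2.map ι]) (ι i0) (ι f0) → Cj (Nz ι' ⊓ N[Q2.map ι']) (ι' i0) (ι' f0)) := by
  rcases s.t6.2.2.2 with e | e
  · exact ⟨ι, s, e, id⟩
  · refine ⟨cp ι bet, ⟨s.toSt.map au_bet (by decide +kernel), s.b1, s.b2⟩, ?_, fun e => ?_⟩
    · rw [au_bet.nz, map_comp bet (B := Q1) (by decide +kernel)]; exact e
    · rw [au_bet.nz, map_comp bet (B := Q2) (by decide +kernel)]; exact e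
theorem pat (e1 : Cj (Nz ι ⊓ N[Q1.map ι]) (ι e0) (ι f0)) (e2 : Cj (Nz ι ⊓ N[Q2.map ι]) (ι i0) (ι f0)) : Pat ι := by
  have c : ∀ x, x * x = 1 → R ι x (rep x) := by
    have r0 : ∀ {x}, R ι x x := Cj.refl _ _
    have a1 : R ι e0 f0 := e1.mono inf_le_left
    have a2 : R ι i0 f0 := e2.mono inf_le_left
    have a3 : R ι _ _ := cjz Nz_le a1
    have a4 : R ι _ _ := cjz Nz_le a2
    have : ∀ s ∈ L, R ι s (rep s) := by
      simp only [L, List.forall_mem_cons]
      exact ⟨r0, r0, r0, r0, r0, s.t3.1, s.t3'.1, s.t3.2, s.t3'.2, s.t5'.1, s.t5.1, s.t6.1, s.t5'.2, s.t5.2, r0, r0, r0,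
        r0, a1, a3, s.t6.2.1, s.t6.2.2.1, a2, a4, s.sw.t6.2.2.1.gam.of, s.sw.t6.2.1.gam.of, by simp⟩
    exact fun x e => (R.s x).tr ((cl x e).2 ▸ this _ (cl x e).1)
  have n : ∀ (A : Subgroup U5) (t u : U5), ¬ R ι t u → ¬ R ι t v0 → (∀ x ∈ A, x ∈ Q0 ∧ x * x = 1 ∧ (x ∈ Z0 ∨ rep x = t)) →
      (∀ y ∈ Q0, y * y = 1 → y ∈ A ∨ rep y = u ∨ rep y = v0) → Z0 ≤ A → Nz ι ≤ N[A.map ι] := fun A t u n1 n2 d1 d2 l g m => by
    refine mem_N_of ?_
    rintro _ ⟨x, a, rfl⟩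
    obtain ⟨x1, x2, x3 | x3⟩ := d1 x a
    · rcases (mem_Z0 x).1 x3 with rfl | rfl
      · simp
      · rw [mem_C1.1 m.1, mul_inv_cancel_right]; exact mem_im a
    obtain ⟨y, y1, e⟩ := (mem_N.1 m.2 _).1 (mem_im x1)
    have y2 := s.tm.sq_of (cjsq e.symm x2)
    have r : R ι t (rep y) := x3 ▸ (c x x2).sy.tr (R.tr ⟨g, m, e.symm⟩ (c y y2))
    rcases d2 y y1 y2 with b | b | b
    exacts [e ▸ mem_im b, (n1 (b ▸ r)).elim, (n2 (b ▸ r)).elim]
  exact ⟨s.tm, s.nq, n A1 c0 h0 (nch s.tm) (ncv s.tm) (by decide +kernel) (by decide +kernel) (le_of (by decide +kernel)),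
    n A2 h0 c0 (fun e => nch s.tm e.sy) (nhv s.tm) (by decide +kernel) (by decide +kernel) (le_of (by decide +kernel)),
    e1, e2, c⟩
end S2
end Xa

theorem Fu.pat (h : Fu ι) : ∃ ι' : U5 →* G, Pat ι' := by
  obtain ⟨g, g1, g2⟩ := h.fe
  obtain ⟨k, k1, k2⟩ := h.fi
  obtain ⟨ι1, s1, b1, -⟩ := (Xa.St.mk h.toTM h.nq ⟨g1, g2⟩ ⟨k1, k2⟩).t
  obtain ⟨ι2, s2, b2, b3⟩ := s1.sw.t
  obtain ⟨ι3, s3, c1, -⟩ := (Xa.S2.mk s2 b2 (b3 b1)).t
  obtain ⟨ι4, s4, c2, c3⟩ := s3.sw.t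
  refine ⟨ι4, s4.pat c2 (c3 ?_)⟩
  rw [Xa.au_gam.nz, map_comp gam (B := Q1) (by decide +kernel)]; exact c1

end Cfsg.Agent.U2
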