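import Cfsg.Agent.U2.Tr
import Cfsg.Agent.U2.Xa
import Cfsg.Agent.U2.Fz
import Cfsg.Agent.U2.Sig
import Cfsg.Agent.U2.Fin
import Cfsg.Agent.HL.Main

/-! # Simple groups with a Sylow `2`-subgroup of type `L₅(2)` -/

set_option autoImplicit false

namespace Cfsg.Agent.U2
open Cfsg Cfsg.Agent.BG Subgroup

theorem TM.main {G : Type*} [Group G] [Finite G] [IsSimpleGroup G] {ι : U5 →* G} (h : TM ι) :
    Nonempty (G ≃* Cov.L52) ∨ Nonempty (G ≃* M24) ∨ Spor.IsoHe G := by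
  obtain ⟨κ, p⟩ := h.fu.pat
  obtain ⟨a, b, c, z, e, f, h, i, j, k, s, r, H⟩ := p.ht p.pz.O_bot
  exact H.simple

end Cfsg.Agent.U2
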