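import Cfsg.Agent.Cov.L52

/-! # `PSL(5, F) ≅ SL(5, 2)` for `|F| = 2` -/

set_option autoImplicit false

namespace Cfsg.Agent.U2
open Matrix Subgroup

theorem ePSL {F : Type*} [Field F] [Fintype F] (hF : Fintype.card F = 2) :
    Nonempty (Matrix.ProjectiveSpecialLinearGroup (Fin 5) F ≃* Cov.L52) := by
  let e : ZMod 2 ≃+* F := ZMod.ringEquivOfPrime F Nat.prime_two hF
  have c : center (Matrix.SpecialLinearGroup (Fin 5) F) = ⊥ := (eq_bot_iff_forall _).2 fun x hx => by
    obtain ⟨r, h1, h2⟩ := Matrix.SpecialLinearGroup.mem_center_iff.1 hx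
    obtain ⟨r, rfl⟩ := e.surjective r
    have : r = 1 := by
      rcases (by decide : ∀ r : ZMod 2, r = 0 ∨ r = 1) r with rfl | rfl
      · simp at h1
      · rfl
    subst this
    exact Subtype.ext (by simpa using h2.symm)
  let m : Matrix.SpecialLinearGroup (Fin 5) F ≃* Cov.L52 :=
    MonoidHom.toMulEquiv (Matrix.SpecialLinearGroup.map e.symm.toRingHom) (Matrix.SpecialLinearGroup.map e.toRingHom)
      (by ext x i j; simp) (by ext x i j; simp)
  exact ⟨((QuotientGroup.quotientMulEquivOfEq c).trans QuotientGroup.quotientBot).trans m⟩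

end Cfsg.Agent.U2
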