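import Cfsg.Agent.U2.Def
import Cfsg.Agent.U2.Psl

/-! # The Sylow `2`-subgroup of `L₅(2)` is `U5` -/

set_option autoImplicit false

namespace Cfsg.Agent.U2
open Cfsg Cfsg.Agent.BG Subgroup
open Cfsg.Agent.S3F (p2)

theorem iso_L52 {F : Type*} [Field F] [Fintype F] (hF : Fintype.card F = 2) :
    Nonempty (Cov.L52 ≃* Matrix.ProjectiveSpecialLinearGroup (Fin 5) F) := (ePSL hF).map MulEquiv.symm

def bz (b : Bool) : ZMod 2 := bif b then 1 else 0
theorem bz_xor : ∀ a b, bz (a ^^ b) = bz a + bz b := by decide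
theorem bz_and : ∀ a b, bz (a && b) = bz a * bz b := by decide
theorem bz_zero : ∀ a, bz a = 0 → a = false := by decide

/-- the unitriangular matrix of an element -/
def mM (x : U5) : Matrix (Fin 5) (Fin 5) (ZMod 2) :=
  !![1, bz x.a, bz x.b, bz x.c, bz x.z; 0, 1, bz x.e, bz x.f, bz x.h; 0, 0, 1, bz x.i, bz x.j;
    0, 0, 0, 1, bz x.k; 0, 0, 0, 0, 1]

theorem mM_mul (x y : U5) : mM (x * y) = mM x * mM y := by
  have e : x * y = U5.mul x y := rfl
  refine Matrix.ext fun i j => ?_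
  rw [e]
  fin_cases i <;> fin_cases j <;>
    simp [mM, Matrix.mul_apply, Fin.sum_univ_succ, U5.mul, -Bool.bne_assoc, bz_xor, bz_and] <;> ring1
theorem mM_det (x : U5) : (mM x).det = 1 := by
  rw [Matrix.det_of_upperTriangular]
  · simp [mM, Fin.prod_univ_succ]
  · intro i j h
    fin_cases i <;> fin_cases j <;> simp_all [mM]
theorem mM_inj (x : U5) (h : mM x = 1) : x = 1 :=
  U5.ext (bz_zero _ (congrFun₂ h 0 1)) (bz_zero _ (congrFun₂ h 0 2)) (bz_zero _ (congrFun₂ h 0 3))
    (bz_zero _ (congrFun₂ h 0 4)) (bz_zero _ (congrFun₂ h 1 2)) (bz_zero _ (congrFun₂ h 1 3))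
    (bz_zero _ (congrFun₂ h 1 4)) (bz_zero _ (congrFun₂ h 2 3)) (bz_zero _ (congrFun₂ h 2 4))
    (bz_zero _ (congrFun₂ h 3 4))

theorem exists_iota {G : Type*} [Group G] [Finite G] {F : Type*} [Field F] [Fintype F] (hF : Fintype.card F = 2)
    (S : Sylow 2 G) (P : Sylow 2 (Matrix.ProjectiveSpecialLinearGroup (Fin 5) F))
    (hS : Nonempty ((S : Subgroup G) ≃* (P : Subgroup (Matrix.ProjectiveSpecialLinearGroup (Fin 5) F)))) :
    ∃ ι : U5 →* G, TM ι := by
  obtain ⟨e⟩ := hS
  obtain ⟨ψ⟩ := iso_L52 hF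
  let φ : U5 →* Cov.L52 := MonoidHom.mk' (fun x => ⟨mM x, mM_det x⟩) fun x y => Subtype.ext (mM_mul x y)
  have i0 : Function.Injective φ := (injective_iff_map_eq_one _).2 fun x h => mM_inj x (congrArg Subtype.val h)
  have c : Nat.card (Matrix.ProjectiveSpecialLinearGroup (Fin 5) F) = 9999360 := by
    have := Class.card_SL (F := ZMod 2) 5 (by norm_num)
    rw [ZMod.card, Fin.prod_univ_five] at this
    exact (Nat.card_congr ψ.toEquiv).symm.trans ((one_mul _).symm.trans this)
  let ι := ψ.toMonoidHom.comp φ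
  have i : Function.Injective ι := ψ.injective.comp i0
  haveI : Finite (Matrix.ProjectiveSpecialLinearGroup (Fin 5) F) := Nat.finite_of_card_ne_zero (by rw [c]; decide)
  let P' : Sylow 2 (Matrix.ProjectiveSpecialLinearGroup (Fin 5) F) := Sylow.ofCard ι.range (by
    rw [← Nat.card_congr (MonoidHom.ofInjective i).toEquiv, U5.card, c,
      show 9999360 = 2 ^ 10 * 9765 from rfl, Nat.factorization_mul (by decide) (by decide), Nat.factorization_pow]
    simp [Nat.factorization_eq_zero_of_not_dvd (show ¬ 2 ∣ 9765 by decide), Nat.prime_two.factorization])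
  let E : U5 ≃* S := ((MonoidHom.ofInjective i).trans (P'.equiv P)).trans e.symm
  refine ⟨(S : Subgroup G).subtype.comp E.toMonoidHom, (subtype_injective _).comp E.injective, ?_⟩
  rw [← MonoidHom.map_range, MonoidHom.range_eq_top.2 E.surjective, ← MonoidHom.range_eq_map, range_subtype]
  exact syl_top p2 S

end Cfsg.Agent.U2
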