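import Cfsg.Agent.U2.Sm

/-! # Groups with a Sylow `2`-subgroup of type `L₅(2)`: definitions

`TM ι`: the injective `ι : U5 →* G` has a Sylow `2`-subgroup of `G` as its range.  `H = C1[ι z0]`, `N = Nz ι`.
`Fu ι`: what transfer gives; `Pat ι`: the fusion in `H` after normalising `ι`; `Pz ι`: also the fusion in `G`.
Files: `Wk` (weak closure), `Sc` (`Q` is strongly closed in `H`), `Cz` (`H = O(H) N`), `Tr` (`Fu`), `Xa` (`Pat`),
`Fz` (`Pz`), `Kv` (`C(v)`), `Sig` (`O(H) = 1`), `Fin` (`HL.HT`), `Main`, `Mod` (the model). -/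

set_option autoImplicit false
set_option linter.unusedVariables false
set_option linter.unusedSectionVars false

namespace Cfsg.Agent.U2
open Cfsg Cfsg.Agent.BG Subgroup PHom
open Cfsg.Agent.S3F (p2)

universe u

variable {G : Type u} [Group G] [Finite G] {ι : U5 →* G} {H K X Y : Subgroup G} {A B : Subgroup U5} {x y : U5}
  {a b g w : G}

structure TM (ι : U5 →* G) : Prop where
  inj : Function.Injective ι
  syl : Syl 2 ι.range ⊤

/-- `x` and `y` are conjugate in `H` -/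
def Cj (H : Subgroup G) (x y : G) : Prop := ∃ g ∈ H, g * x * g⁻¹ = y

/-- `N_H(Q)` -/
def Nz (ι : U5 →* G) : Subgroup G := C1[ι z0] ⊓ N[Q0.map ι]
/-- `N(T) = N(E1) ⊓ N(E2)` -/
def NT (ι : U5 →* G) : Subgroup G := N[E1.map ι] ⊓ N[E2.map ι]

/-- the representative in `[1, z, c, h, v, f, f z, f b, f j]` of the class of the involution `x` in `2^(1+6) : L₃(2)` -/
def rep (x : U5) : U5 :=
  if x.e then (if x.c != (x.b && x.f) then f0 * b0 else if x.j || x.k then f0 * j0 else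
    if x.z == (x.b && x.h) then f0 else f0 * z0)
  else if x.i then (if x.a || x.b then f0 * b0 else if x.h != (x.j && x.f) then f0 * j0 else
    if x.z == (x.c && x.j) then f0 else f0 * z0)
  else if x.f then (if x.b then f0 * b0 else if x.j then f0 * j0 else if x.z == (x.c && x.h) then f0 else f0 * z0)
  else if x.a || x.b || x.c then (if x.h || x.j || x.k then v0 else c0)
  else if x.h || x.j || x.k then h0 else if x.z then z0 else 1
/-- transvections -/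
def tv (x : U5) : Prop := x * x = 1 ∧ (rep x = z0 ∨ rep x = c0 ∨ rep x = h0 ∨ rep x = f0)
instance : DecidablePred tv := fun x => inferInstanceAs (Decidable (_ ∧ _))

/-- `H = O(H) N`, and the fusion given by transfer -/
structure Fu (ι : U5 →* G) : Prop extends TM ι where
  nq : C1[ι z0] ≤ O[{2}ᶜ](C1[ι z0]) ⊔ Nz ι
  nR : ¬ Nz ι ≤ N[R4.map ι]
  nL : ¬ Nz ι ≤ N[L4.map ι]
  fe : ∃ g ∈ Nz ι ⊓ N[Q1.map ι], ∃ x ∈ Qf, x ∉ Q0 ∧ g * ι e0 * g⁻¹ = ι x
  fi : ∃ g ∈ Nz ι ⊓ N[Q2.map ι], ∃ x ∈ Qf, x ∉ Q0 ∧ g * ι i0 * g⁻¹ = ι x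

/-- the fusion in `H` is that of `2^(1+6) : L₃(2)` -/
structure Pat (ι : U5 →* G) : Prop extends TM ι where
  nq : C1[ι z0] ≤ O[{2}ᶜ](C1[ι z0]) ⊔ Nz ι
  nA1 : Nz ι ≤ N[A1.map ι]
  nA2 : Nz ι ≤ N[A2.map ι]
  fe : Cj (Nz ι ⊓ N[Q1.map ι]) (ι e0) (ι f0)
  fi : Cj (Nz ι ⊓ N[Q2.map ι]) (ι i0) (ι f0)
  cls : ∀ x, x * x = 1 → Cj (Nz ι) (ι x) (ι (rep x))

/-- also all transvections are conjugate to `z` -/
structure Pz (ι : U5 →* G) : Prop extends Pat ι where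
  fz : ∀ x, tv x → Cj ⊤ (ι x) (ι z0)
  fv : Cj (NT ι) (ι (f0 * z0)) (ι v0)

theorem Cj.symm {x y : G} (h : Cj H x y) : Cj H y x := by
  obtain ⟨g, a, rfl⟩ := h
  exact ⟨g⁻¹, inv_mem a, by group⟩
theorem Cj.trans {x y z : G} (h : Cj H x y) (h' : Cj H y z) : Cj H x z := by
  obtain ⟨g, a, rfl⟩ := h
  obtain ⟨k, b, rfl⟩ := h'
  exact ⟨k * g, mul_mem b a, by group⟩
theorem Cj.mono {x y : G} (h : Cj H x y) (l : H ≤ K) : Cj K x y := h.imp fun _ a => ⟨l a.1, a.2⟩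
theorem Cj.top {x y : G} (h : Cj H x y) : Cj ⊤ x y := h.mono le_top
theorem Cj.refl (H : Subgroup G) (x : G) : Cj H x x := ⟨1, one_mem _, by group⟩
theorem cj_g (g x : G) : Cj ⊤ x (g * x * g⁻¹) := ⟨g, trivial, rfl⟩
theorem cj_iff {x y : G} : Cj ⊤ x y ↔ IsConj x y :=
  ⟨fun ⟨g, _, e⟩ => isConj_iff.2 ⟨g, e⟩, fun h => (isConj_iff.1 h).imp fun _ e => ⟨trivial, e⟩⟩

theorem map_le (A : Subgroup U5) : A.map ι ≤ ι.range := map_le_range _ _
theorem mem_im (h : x ∈ A) : ι x ∈ A.map ι := mem_map_of_mem _ h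
theorem mem_rg (x : U5) : ι x ∈ ι.range := ⟨x, rfl⟩
theorem rg_pig (ι : U5 →* G) : PiG {2} ι.range := by
  rw [MonoidHom.range_eq_map]
  exact (pig_of_card_pow (n := 10) p2 (by rw [card_top, U5.card]; rfl)).map ι
theorem map_pig (A : Subgroup U5) : PiG {2} (A.map ι) := (rg_pig ι).of_le (map_le A)
theorem rg_cen : ι.range ≤ C1[ι z0] := by
  rintro _ ⟨x, rfl⟩
  rw [mem_C1, ← map_mul, ← map_mul, z0_cen]
theorem rg_norm (h : ⊤ ≤ N[A]) : ι.range ≤ N[A.map ι] := by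
  rw [MonoidHom.range_eq_map]; exact norm_map h ι
theorem map_Z : Z0.map ι = zpowers (ι z0) := by rw [Z0_eq, MonoidHom.map_zpowers]
theorem map_C1 (x : U5) : C1[x].map ι ≤ C1[ι x] := by
  rintro _ ⟨y, a, rfl⟩
  rw [mem_C1, ← map_mul, ← map_mul, mem_C1.1 a]
theorem cjsq (e : g * ι x * g⁻¹ = a) (h : x * x = 1) : a * a = 1 := by
  rw [← e, conj_mul, ← map_mul, h]; simp
theorem cj_s (x s : U5) : Cj ι.range (ι x) (ι (s * x * s⁻¹)) := ⟨ι s, mem_rg s, by simp⟩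
theorem cj_s' (e : ∃ s, s * x * s⁻¹ = y) : Cj ι.range (ι x) (ι y) := by
  obtain ⟨s, rfl⟩ := e
  exact cj_s x s

/-- the map induced by conjugation on a part of `Sm` -/
structure Pull (ι : U5 →* G) (g : G) (A : Subgroup U5) (σ : U5 → U5) : Prop where
  eq : ∀ x ∈ A, ι (σ x) = g * ι x * g⁻¹
  mul : ∀ x ∈ A, ∀ y ∈ A, σ (x * y) = σ x * σ y
  inj : ∀ x ∈ A, ∀ y ∈ A, σ x = σ y → x = y
  one : σ 1 = 1

namespace Pull
variable {σ : U5 → U5} (q : Pull ι g A σ)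
include q
theorem ne (a : x ∈ A) (b : y ∈ A) (n : x ≠ y) : σ x ≠ σ y := fun e => n (q.inj x a y b e)
theorem ne1 (a : x ∈ A) (n : x ≠ 1) : σ x ≠ 1 := q.one ▸ q.ne a (one_mem _) n
theorem sq (a : x ∈ A) (e : x * x = y) : σ x * σ x = σ y := by rw [← q.mul x a x a, e]
theorem sq1 (a : x ∈ A) (e : x * x = 1) : σ x * σ x = 1 := (q.sq a e).trans q.one
theorem cm (a : x ∈ A) (b : y ∈ A) (e : x * y = y * x) : σ x * σ y = σ y * σ x := by
  rw [← q.mul x a y b, ← q.mul y b x a, e]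
theorem cj (hg : g ∈ H) (a : x ∈ A) : Cj H (ι x) (ι (σ x)) := ⟨g, hg, (q.eq x a).symm⟩
theorem mem (a : x ∈ A) : ι (σ x) ∈ BG.cj g (A.map ι) := q.eq x a ▸ mem_cj_conj.2 (mem_im a)
end Pull

namespace TM
variable (h : TM ι)
include h

theorem eq : ι x = ι y ↔ x = y := h.inj.eq_iff
theorem mem_iff : ι x ∈ A.map ι ↔ x ∈ A := mem_map_iff_mem h.inj
theorem ne_one (a : x ≠ 1) : ι x ≠ 1 := fun e => a (h.inj (e.trans (map_one ι).symm))
theorem card (A : Subgroup U5) : #(A.map ι) = #A := card_map_inj h.inj A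
theorem card_rg : #ι.range = 1024 := by rw [MonoidHom.range_eq_map, h.card, card_top, U5.card]
theorem sub (l : ι.range ≤ H) : Syl 2 ι.range H := h.syl.sub l le_top
/-- a `2`-subgroup of `H` is conjugate in `H` into the range -/
theorem cj_sub (l' : ι.range ≤ H) (l : X ≤ H) (p : PiG {2} X) : ∃ g ∈ H, BG.cj g X ≤ ι.range :=
  (h.sub l').cj_sub p2 l p
theorem sq_of (e : ι x * ι x = 1) : x * x = 1 := h.inj (by rw [map_mul, map_one, e])

theorem pull (l : BG.cj g (A.map ι) ≤ ι.range) : ∃ σ, Pull ι g A σ := by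
  have : ∀ x, ∃ y, x ∈ A → ι y = g * ι x * g⁻¹ := fun x => by
    by_cases a : x ∈ A
    · obtain ⟨y, e⟩ := l (mem_cj_conj.2 (mem_im a))
      exact ⟨y, fun _ => e⟩
    · exact ⟨1, fun b => (a b).elim⟩
  choose σ e using this
  refine ⟨σ, e, fun x a y b => h.inj ?_, fun x a y b c => h.inj ?_, h.inj ?_⟩
  · rw [map_mul, e _ (mul_mem a b), e x a, e y b, map_mul]; group
  · have := (e x a).symm.trans ((congrArg ι c).trans (e y b))
    simpa using this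
  · rw [e 1 (one_mem _)]; simp

theorem inf_C1 (x : U5) : ι.range ⊓ C1[ι x] = C1[x].map ι := by
  refine le_antisymm ?_ (le_inf (map_le _) (map_C1 x))
  rintro _ ⟨⟨y, rfl⟩, a⟩
  exact mem_im (mem_C1.2 (h.inj (by rw [map_mul, map_mul]; exact mem_C1.1 a)))

theorem ord (e : x * x = 1) (n : x ≠ 1) : orderOf (ι x) = 2 :=
  orderOf_of_pow p2 (by rw [pow_two, ← map_mul, e, map_one]) (h.ne_one n)

/-- a conjugate of `z` is extremal only in `z` -/
theorem toZ (e : Cj ⊤ (ι x) (ι z0)) : ∃ g, g * ι x * g⁻¹ = ι z0 ∧ BG.cj g (C1[x].map ι) ≤ ι.range := by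
  obtain ⟨k, -, e⟩ := e
  obtain ⟨c, b, d⟩ := h.cj_sub rg_cen (X := BG.cj k (C1[x].map ι))
    (by rw [← e, ← cj_C1]; exact cj_mono _ (map_C1 x)) ((map_pig _).cj _)
  refine ⟨c * k, ?_, by rwa [cj_mul]⟩
  rw [show c * k * ι x * (c * k)⁻¹ = c * (k * ι x * k⁻¹) * c⁻¹ by group, e, mem_C1.1 b, mul_inv_cancel_right]

theorem toZ' (e : Cj ⊤ (ι x) (ι z0)) : ∃ g σ, Pull ι g C1[x] σ ∧ σ x = z0 := by
  obtain ⟨g, e, l⟩ := h.toZ e
  obtain ⟨σ, q⟩ := h.pull l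
  exact ⟨g, σ, q, h.inj ((q.eq _ (mem_C1_self x)).trans e)⟩

/-- an involution of `H` is conjugate in `H` into the range -/
theorem inv_in (l : ι.range ≤ H) (hw : w ∈ H) (e : w * w = 1) : ∃ x, x * x = 1 ∧ Cj H w (ι x) := by
  obtain ⟨g, a, b⟩ := h.cj_sub l (zpowers_le.2 hw) (pig_zpowers.2 (pie_of_pow p2 ((pow_two w).trans e)))
  obtain ⟨x, c⟩ := b (mem_cj_conj.2 (mem_zpowers w))
  exact ⟨x, h.sq_of (by rw [c, conj_mul, e]; group), g, a, c.symm⟩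
end TM

theorem TM.comp (h : TM ι) (α : U5 ≃* U5) : TM (ι.comp α.toMonoidHom) :=
  ⟨h.inj.comp α.injective, by
    rw [MonoidHom.range_comp, MonoidHom.range_eq_top.2 α.surjective, ← MonoidHom.range_eq_map]; exact h.syl⟩
theorem map_comp (α : U5 ≃* U5) (e : ∀ x, x ∈ A ↔ α x ∈ B) : A.map (ι.comp α.toMonoidHom) = B.map ι := by
  rw [← map_map]
  congr 1
  ext y
  exact ⟨fun ⟨x, a, b⟩ => b ▸ (e x).1 a, fun b => ⟨α.symm y, (e _).2 (by simpa using b), by simp⟩⟩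
theorem rg_Nz : ι.range ≤ Nz ι := le_inf rg_cen (rg_norm n_Q0)
theorem rg_NT : ι.range ≤ NT ι := le_inf (rg_norm n_E1) (rg_norm n_E2)
theorem Nz_le : Nz ι ≤ C1[ι z0] := inf_le_left

end Cfsg.Agent.U2
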