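import Cfsg.Agent.U2.Wk

/-! # Odd subgroups of `H` normalised by a four-group -/

set_option autoImplicit false
set_option linter.unusedVariables false
set_option linter.unusedSectionVars false

namespace Cfsg.Agent.U2
open Cfsg Cfsg.Agent.BG Subgroup PHom
open Cfsg.Agent.S3F (p2)

universe u

variable {G : Type u} [Group G] [Finite G] {ι : U5 →* G} {H K M X Y : Subgroup G} {A B : Subgroup U5} {x y : U5}
  {a b g w : G}

namespace P0
theorem d1 : ∀ t : U5, (∀ x ∈ [a0, b0, c0, h0, j0, k0], x * t = t * x) → t ∈ Z0 := by decide +kernel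
theorem d2 : ∀ u ∈ U0, ∀ a ∈ A1, u * a * u⁻¹ * a⁻¹ ∈ R4 := by decide +kernel
theorem d3 : ∀ u ∈ U0, u ∉ R4 → ∀ a ∈ A1, a * u = u * a → a ∈ R8 := by decide +kernel
theorem d4 : ∀ x ∈ R8, ∀ y ∈ R8, x ∉ R4 → y ∉ R4 → x * y⁻¹ ∈ R4 := by decide +kernel
theorem d5 : ∀ x ∈ A1, ∀ y ∈ A1, x ∉ R8 → y ∉ R8 → x * y⁻¹ ∈ R8 := by decide +kernel
theorem d6 : ∀ t ∈ Q0, (∀ x ∈ [a0, b0, c0], x * t = t * x) → t ∈ A1 := by decide +kernel
theorem d7 : ∀ x ∈ R4, x = 1 ∨ x = c0 ∨ x = z0 ∨ x = c0 * z0 := by decide +kernel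
theorem R8_E : R8 ≤ E1 := le_of (by decide +kernel)
theorem U_E : U0 ≤ E1 := le_of (by decide +kernel)
theorem R8_A : R8 ≤ A1 := le_of (by decide +kernel)
theorem A_Q : A1 ≤ Q0 := le_of (by decide +kernel)

theorem comm2 (h : TM ι) (d : ∀ x ∈ A, ∀ y ∈ A, x ∉ B → y ∉ B → x * y⁻¹ ∈ B) (nA : Y ≤ N[A.map ι])
    (nB : Y ≤ N[B.map ι]) : ⁅A.map ι, Y⁆ ≤ B.map ι := (commC _ _).le.trans (comm_le_iff.2 (by
  rintro g hg _ ⟨x, a, rfl⟩
  by_cases b : x ∈ B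
  · exact mul_mem (conj_mem (nB hg) (mem_im b)) (inv_mem (mem_im b))
  obtain ⟨y, c, e⟩ := conj_mem (nA hg) (mem_im (ι := ι) a)
  rw [← e, ← map_inv, ← map_mul]
  refine mem_im (d y c x a (fun m => b (h.mem_iff.1 ?_)) b)
  simpa [e, mul_assoc] using conj_mem (inv_mem (nB hg)) (mem_im (ι := ι) m)))
end P0
open P0

/-- odd order subgroups centralising `Q` -/
theorem Pat.cQ (h : Pat ι) (l : X ≤ C[Q0.map ι]) (od : PiG {2}ᶜ X) : X ≤ O[{2}ᶜ](C1[ι z0]) := by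
  have lH : C[Q0.map ι] ≤ C1[ι z0] := C_le_C1 (mem_im (by decide))
  have s := (h.sub (rg_norm n_Q0)).inf_norm' (cents_norm le_rfl) (normC le_rfl)
  have c : ι.range ⊓ C[Q0.map ι] ≤ Z0.map ι := by
    rintro _ ⟨⟨t, rfl⟩, b⟩
    exact mem_im (d1 t fun x a => h.inj (by
      rw [map_mul, map_mul]; exact mem_C.1 b _ (mem_im ((by decide +kernel : ∀ x ∈ [a0, b0, c0, h0, j0, k0], x ∈ Q0) x a))))
  have cZ : C1[ι z0] ≤ C[Z0.map ι] := by rw [map_Z, C_zpowers]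
  refine ((burnside p2 s (inf_le_left.trans (lH.trans (cZ.trans (centS c))))).le_O l od).trans
    (le_sup_right.trans (le_O (sup_le (O_le _ _) ((O_le _ _).trans lH)) (h.nq.trans (sup_le (normsG le_sup_left)
      (normY (inf_le_left.trans (O_norm _ _)) (normO _ (normC inf_le_right)))))
      ((O_pig _ _).sup_l (O_pig _ _) (((O_le _ _).trans lH).trans (O_norm _ _)))))

/-- an odd order subgroup of `N` centralising `c` and normalised by an element of `U - R4` centralises `Q` -/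
theorem Pat.cA (h : Pat ι) (x1 : x ∈ U0) (x2 : x ∉ R4) (l : Y ≤ Nz ι) (od : PiG {2}ᶜ Y) (c : Y ≤ C1[ι c0])
    (n : ι x ∈ N[Y]) : Y ≤ C[Q0.map ι] := by
  have cR : R4.map ι ≤ C[Y] := by
    rintro _ ⟨y, a, rfl⟩
    have m1 := le_C1_iff.1 c
    have m2 := le_C1_iff.1 (l.trans Nz_le)
    rcases d7 y a with rfl | rfl | rfl | rfl
    exacts [by simp, m1, m2, by rw [map_mul]; exact mul_mem m1 m2]
  have nA := l.trans h.nA1
  have nR := cents_norm (cent_symm cR)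
  have lY : ⁅Y, zpowers (ι x)⁆ ≤ Y := commL (zpowers_le.2 n)
  have k1 : ⁅zpowers (ι x), A1.map ι⁆ ≤ R4.map ι := (commS (zpowers_le.2 (mem_im x1)) le_rfl).trans (comm_le_iff.2 (by
    rintro _ ⟨u, a, rfl⟩ _ ⟨y, b, rfl⟩
    rw [← map_inv, ← map_inv, ← map_mul, ← map_mul, ← map_mul]
    exact mem_im (d2 u a y b)))
  have k2 : A1.map ι ≤ C[⁅Y, zpowers (ι x)⁆] := cop_stable ((map_pig R4).coprime (od.of_le lY)).symm
    ((commC _ _).le.trans (three_subgroup_mod (zpowers_le.2 (rg_norm n_R4 (mem_rg x))) ((map_le _).trans (rg_norm n_R4))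
      nR ((commS k1 le_rfl).trans (commL nR)) ((commS (commL nA) le_rfl).trans ((commC _ _).le.trans k1))))
    (cR.trans (centS lY))
  have k3 : ⁅⁅R8.map ι, Y⁆, zpowers (ι x)⁆ = ⊥ := three_subgroup (comm_eq_bot'.2 ((map_mono R8_A).trans k2)) (by
    rw [comm_eq_bot.2 (zpowers_le.2 (((ab_E1.map ι).abel (mem_im (U_E x1))) |> centS (map_mono R8_E)))]; simp)
  have n8 : Y ≤ N[R8.map ι] := fun g hg => mem_N_of fun r hr => by
    have m : g * r * g⁻¹ * r⁻¹ ∈ ⁅R8.map ι, Y⁆ := commC Y _ ▸ comm_le_iff.1 le_rfl g hg r hr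
    obtain ⟨y, y1, e⟩ := ((commS (map_mono R8_A) le_rfl).trans (commL nA)) m
    have := mem_im (ι := ι) (d3 x x1 x2 y y1 (h.inj (by
      rw [map_mul, map_mul, e]; exact mem_C1.1 (C_zpowers (ι x) ▸ comm_eq_bot.1 k3 m))))
    simpa [e] using mul_mem this hr
  have c8 := cop_stable ((map_pig R4).coprime od).symm (comm2 h.toTM d4 n8 nR) cR
  have cA := cop_stable ((map_pig R8).coprime od).symm (comm2 h.toTM d5 nA n8) c8
  have k4 : ⁅⁅Q0.map ι, Y⁆, A1.map ι⁆ = ⊥ := three_subgroup (by rw [comm_eq_bot'.2 cA]; simp)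
    (comm_eq_bot.2 ((commL ((map_le _).trans (rg_norm n_A1))).trans cA))
  refine cent_symm (cop_stable ((map_pig A1).coprime od).symm (fun r hr => ?_) cA)
  obtain ⟨y, y1, rfl⟩ := commL (l.trans inf_le_right) hr
  exact mem_im (d6 y y1 fun t a => h.inj (by
    rw [map_mul, map_mul]
    exact mem_C.1 (comm_eq_bot.1 k4 hr) _ (mem_im ((by decide +kernel : ∀ x ∈ [a0, b0, c0], x ∈ A1) t a))))

theorem Pat.p0 (h : Pat ι) (x1 : x ∈ U0) (x2 : x ∉ R4) (l : X ≤ C1[ι z0]) (od : PiG {2}ᶜ X) (n1 : ι c0 ∈ N[X])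
    (n2 : ι x ∈ N[X]) : X ≤ O[{2}ᶜ](C1[ι z0]) := by
  have nO := O_norm {2}ᶜ C1[ι z0]
  have o := (O_pig {2}ᶜ C1[ι z0]).sup_l od (l.trans nO)
  have lH := sup_le (O_le {2}ᶜ C1[ι z0]) l
  refine le_sup_right.trans ((le_inf (lH.trans h.nq) le_rfl).trans ?_)
  rw [modl_l (Nz_le.trans nO) le_sup_left]
  have o' := o.of_le (inf_le_right (a := Nz ι))
  have n : ∀ {y}, ι y ∈ N[X] → zpowers (ι y) ≤ N[O[{2}ᶜ](C1[ι z0]) ⊔ X] := fun {y} a =>
    normY (zpowers_le.2 (nO (rg_cen (mem_rg y)))) (zpowers_le.2 a)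
  refine sup_le le_rfl (h.cQ (h.cA x1 x2 inf_le_left o' ?_
    (normI (zpowers_le.2 (normG _ (rg_Nz (mem_rg x)))) (n n2) (mem_zpowers _))) o')
  rw [← C_zpowers (ι c0), ← comm_eq_bot, ← le_bot_iff, ← (map_pig (ι := ι) Q0).inf_bot o]
  exact le_inf ((commS le_rfl (zpowers_le.2 (mem_im (by decide)))).trans (commR (inf_le_left.trans inf_le_right)))
    ((commS inf_le_right le_rfl).trans (commL (n n1)))

end Cfsg.Agent.U2
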