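import Cfsg.Agent.U2.Sd

/-! # `Q` is strongly closed in `S` with respect to `H` -/

set_option autoImplicit false
set_option maxRecDepth 100000
set_option linter.unusedVariables false
set_option linter.unusedSectionVars false

namespace Cfsg.Agent.U2
open Cfsg Cfsg.Agent.BG Subgroup PHom
open Cfsg.Agent.S3F (p2)

universe u

variable {G : Type u} [Group G] [Finite G] {ι : U5 →* G} {H K M X Y : Subgroup G} {A B : Subgroup U5} {x y : U5}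
  {a b g w : G}

namespace Sc
section
variable {Γ : Type*} [Group Γ] {E : Set Γ} {L : Subgroup Γ} {n s : Γ}
/-- the elements of `N(L)` centralising `E` modulo `L` -/
def St (E : Set Γ) (L : Subgroup Γ) : Subgroup Γ where
  carrier := {g | g ∈ N[L] ∧ ∀ x ∈ E, br g x ∈ L}
  one_mem' := ⟨one_mem _, fun x _ => by simp [br]⟩
  mul_mem' := fun {g k} a b => ⟨mul_mem a.1 b.1, fun x i => by
    rw [show br (g * k) x = g * br k x * g⁻¹ * br g x by simp only [br]; group]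
    exact mul_mem (conj_mem a.1 (b.2 x i)) (a.2 x i)⟩
  inv_mem' := fun {g} a => ⟨inv_mem a.1, fun x i => by
    rw [show br g⁻¹ x = g⁻¹ * (br g x)⁻¹ * g by simp only [br]; group]
    exact conj_mem' a.1 (inv_mem (a.2 x i))⟩
theorem br_cj (n s x : Γ) : br (n * s * n⁻¹) (n * x * n⁻¹) = n * br s x * n⁻¹ := by simp only [br]; group
theorem br_map {Γ' : Type*} [Group Γ'] (f : Γ →* Γ') (s x : Γ) : f (br s x) = br (f s) (f x) := by simp [br]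
theorem St_cj {F : Subgroup Γ} (a : s ∈ St F L) (n1 : n ∈ N[F]) : n * s * n⁻¹ ∈ St F (BG.cj n L) :=
  ⟨cj_N n L ▸ mem_cj_conj.2 a.1, fun x i => by
    rw [show x = n * (n⁻¹ * x * n) * n⁻¹ by group, br_cj]
    exact mem_cj_conj.2 (a.2 _ (conj_mem' n1 i))⟩
end

/-- the centraliser modulo `Z` -/
def Cb (x : U5) : Subgroup U5 := St {x} Z0
theorem mem_Cb {s : U5} (e : br s x ∈ Z0) : s ∈ Cb x := ⟨n_Z0 (mem_top s), fun _ i => i ▸ e⟩
theorem self_Cb (x : U5) : x ∈ Cb x := mem_Cb (by simp [br])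
theorem H_NZ : C1[ι z0] ≤ N[Z0.map ι] := by
  rw [map_Z]; exact fun g a => mem_N_of_cj_le (by rw [cj_zpowers, mem_C1.1 a, mul_inv_cancel_right])
theorem NZ_H (h : TM ι) : N[Z0.map ι] ≤ C1[ι z0] := fun g a => by
  obtain ⟨y, b, e⟩ := conj_mem a (mem_im (show z0 ∈ Z0 by decide))
  rcases (mem_Z0 y).1 b with rfl | rfl
  · exact (h.ne_one (show z0 ≠ 1 by decide) (conj_eq_one_iff.1 (e.symm.trans (map_one ι)))).elim
  · exact mem_C1.2 (mul_inv_eq_iff_eq_mul.1 e.symm)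
theorem brQ (a : x ∈ Q0) (b : y ∈ Q0) : br x y ∈ Z0 := by
  have s := Wk.dQ _ (mul_mem a b)
  have e : br x y = x * y * (x * y) * (y⁻¹ * (x * x)⁻¹ * y) * (y * y)⁻¹ := by simp only [br]; group
  rw [e]
  exact mul_mem (mul_mem s (conj_mem' (n_Z0 (mem_top y)) (inv_mem (Wk.dQ x a)))) (inv_mem (Wk.dQ y b))
end Sc
open Sc Wk

namespace TM
variable (h : TM ι)
include h

theorem ext (a : y ∈ Q0) (e : Cj C1[ι z0] (ι y) (ι x)) :
    ∃ k ∈ C1[ι z0], ∃ σ, Pull ι k (Cb x) σ ∧ σ x ∈ Q0 := by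
  obtain ⟨g, hg, e⟩ := e.symm
  have lQ : Q0.map ι ≤ St {ι y} (Z0.map ι) := by
    rintro _ ⟨s, i, rfl⟩
    exact ⟨H_NZ (rg_cen (mem_rg s)), fun _ j => by rw [j, ← br_map]; exact mem_im (brQ i a)⟩
  obtain ⟨R, s, l⟩ := syl_superset p2 lQ (map_pig _)
  obtain ⟨c, hc, d⟩ := s.cj_sub p2 (U := BG.cj g ((Cb x).map ι)) (fun _ i => by
    obtain ⟨_, ⟨t, j, rfl⟩, rfl⟩ := exists_of_mem_cj i
    refine ⟨H_NZ (mul_mem (mul_mem hg (rg_cen (mem_rg t))) (inv_mem hg)), fun _ k => ?_⟩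
    rw [k, ← e, br_cj, ← br_map]
    exact conj_mem (H_NZ hg) (mem_im (j.2 x rfl))) ((map_pig _).cj g)
  obtain ⟨w, hw, f⟩ := h.cj_sub rg_cen (s.le.trans fun _ i => NZ_H h i.1) s.pi
  obtain ⟨σ, q⟩ := h.pull (g := w * (c * g)) (A := Cb x) (by rw [cj_mul, cj_mul]; exact (cj_mono _ d).trans f)
  refine ⟨_, mul_mem hw (mul_mem (NZ_H h hc.1) hg), σ, q, h.mem_iff.1 ?_⟩
  rw [q.eq x (self_Cb x), show w * (c * g) * ι x * (w * (c * g))⁻¹ = w * (br c (g * ι x * g⁻¹) * (g * ι x * g⁻¹)) * w⁻¹ by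
    simp only [br]; group, e]
  exact conj_mem (h.wkQ hw ((cj_mono _ l).trans f)) (mul_mem (map_mono (le_of Z_Q) (hc.2 _ rfl)) (mem_im a))

theorem T_St {t : U5} (a : t ∈ lT) : ι t ∈ St (E1.map ι) (L4.map ι) :=
  ⟨rg_norm n_L4 (mem_rg t), by rintro _ ⟨x, i, rfl⟩; rw [← br_map]; exact mem_im (e6 x i t a)⟩

theorem cE1 (x1 : x ∈ E1) (x2 : x ∉ Q0) (a : y ∈ Q0) : ¬ Cj C1[ι z0] (ι y) (ι x) := fun e => by
  obtain ⟨k, hk, σ, q, m⟩ := h.ext a e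
  have EC : E1 ≤ Cb x := fun s i => mem_Cb (by simp [br, le_C_iff.1 ab_E1.abel s i x x1])
  have n1 := h.n1 (g := k) (by
    intro _ i
    obtain ⟨_, ⟨t, j, rfl⟩, rfl⟩ := exists_of_mem_cj i
    exact ⟨σ t, q.eq t (EC j)⟩)
  have kz : k * ι z0 * k⁻¹ = ι z0 := by rw [mem_C1.1 hk, mul_inv_cancel_right]
  obtain ⟨⟨t0, t1, t2⟩, t, t3, t4⟩ := e5 x x1 x2
  have s1 := St_cj (h.T_St t1) n1
  rw [← q.eq t0 (mem_Cb t2)] at s1
  have no : ∀ p ∈ E1, ∀ r ∈ E1, ¬ three (σ t0) p r := fun p i r j ⟨u1, u2, u3⟩ => by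
    have key : ∀ p ∈ E1, br (σ t0) p ∉ Z0 → ι (br (σ t0) p) = k * ι h0 * k⁻¹ ∨
        ι (br (σ t0) p) = k * ι h0 * k⁻¹ * ι z0 := fun p i u => by
      obtain ⟨_, ⟨v, j, rfl⟩, f⟩ := exists_of_mem_cj (s1.2 _ (mem_im i))
      rw [← br_map] at f
      rcases mem_L4 v j with rfl | rfl | rfl | rfl
      · exact (u (h.inj (f.trans (by simp) : _ = ι 1) ▸ one_mem _)).elim
      · exact (u (h.inj (f.trans kz) ▸ by decide)).elim
      · exact .inl f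
      · exact .inr (by rw [f, map_mul, ← conj_mul, kz])
    have hh : k * ι h0 * k⁻¹ * (k * ι h0 * k⁻¹) = 1 := cjsq rfl (by decide)
    have cz : ι z0 * (k * ι h0 * k⁻¹) = k * ι h0 * k⁻¹ * ι z0 := by
      rw [← kz, conj_mul, conj_mul, ← map_mul, ← map_mul, z0_cen]
    have zz : ι z0 * ι z0 = 1 := by rw [← map_mul, show z0 * z0 = 1 by decide, map_one]
    refine u3 (h.mem_iff.1 ?_)
    rw [map_mul]
    rcases key p i u1 with v | v <;> rcases key r j u2 with w | w <;> rw [v, w]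
    · rw [hh]; exact one_mem _
    · rw [← mul_assoc, hh, one_mul]; exact mem_im (by decide)
    · rw [mul_assoc _ (ι z0), cz, ← mul_assoc, hh, one_mul]; exact mem_im (by decide)
    · rw [mul_assoc _ (ι z0), ← mul_assoc (ι z0), cz, ← mul_assoc, ← mul_assoc, hh, one_mul, zz]; exact one_mem _
  have P := ((e1 (σ t0)).resolve_right fun i => i.elim (no _ (by decide) _ (by decide)) (no _ (by decide) _ (by decide)))
  have PS : ι (σ t0) ∈ St (E1.map ι) (L4.map ι) := by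
    obtain ⟨r, r1, r2⟩ := e8 _ P
    rw [← mul_inv_cancel_left r (σ t0), map_mul]
    refine mul_mem ?_ ⟨rg_norm n_L4 (mem_rg _), ?_⟩
    · rcases List.mem_cons.1 r1 with rfl | r1
      exacts [map_one ι ▸ one_mem _, h.T_St r1]
    · rintro _ ⟨v, i, rfl⟩
      rw [← br_map]
      exact mem_im (by rw [br, le_C_iff.1 ab_E1.abel _ r2 v i, mul_inv_cancel_right, mul_inv_cancel]; exact one_mem _)
  have kh : k * ι h0 * k⁻¹ ∈ L4.map ι := by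
    obtain ⟨-, w, w1, w2⟩ := e7 t0 t1
    rw [← w2, br_map, ← br_cj, ← q.eq t0 (mem_Cb t2)]
    exact PS.2 _ (conj_mem n1 (mem_im ((by decide : ∀ w ∈ [e0, f0], w ∈ E1) w w1)))
  have nL : k ∈ N[L4.map ι] := mem_N_of (by
    rintro _ ⟨v, i, rfl⟩
    rcases mem_L4 v i with rfl | rfl | rfl | rfl
    · simp
    · rw [kz]; exact mem_im i
    · exact kh
    · rw [map_mul, ← conj_mul, kz]; exact mul_mem kh (mem_im (by decide)))
  have s2 := St_cj (h.T_St t3) n1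
  rw [cj_of_mem_N nL] at s2
  have sy : Syl 2 (ι.range ⊓ (C1[ι z0] ⊓ St (E1.map ι) (L4.map ι))) (C1[ι z0] ⊓ St (E1.map ι) (L4.map ι)) :=
    h.syl.inf_norm le_top (normI (normsG rg_cen) fun s i => mem_N_of fun g j => by
      have := St_cj j (rg_norm n_E1 i)
      rwa [cj_of_mem_N (rg_norm n_L4 i)] at this)
  obtain ⟨w, hw, f⟩ := sy.cj_sub p2 (zpowers_le.2 (mem_inf.2
    ⟨mul_mem (mul_mem hk (rg_cen (mem_rg t))) (inv_mem hk), s2⟩))
    (pig_zpowers.2 (pie_of_pow p2 ((pow_two _).trans (cjsq rfl (e7 t t3).1))))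
  obtain ⟨⟨s, s3⟩, -, s4⟩ := f (mem_cj_conj.2 (mem_zpowers _))
  rw [← s3] at s4
  have g : ∀ p ∈ E1, br s p ∈ L4 := fun p i => h.mem_iff.1 (br_map ι s p ▸ s4.2 _ (mem_im i))
  have y1 : σ x ∈ E1 := h.pmem q n1 (self_Cb x) x1
  obtain ⟨v, v1, v2⟩ := hw.2.2 _ (mem_im y1)
  have b := e3 s (e2 s (g _ (by decide)) (g _ (by decide)) (g _ (by decide))) (e4 _ y1 m v (by
    rcases mem_L4 v v1 with rfl | rfl | rfl | rfl <;> simp))
  have c : ι (br s (v * σ x)) = w * k * ι (br t x) * (w * k)⁻¹ := by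
    rw [br_map, s3, map_mul, v2, q.eq x (self_Cb x), br_map]
    simp only [br]; group
  exact t4 (h.mem_iff.1 ((mem_N.1 (H_NZ (mul_mem hw.1 hk)) _).2 (c ▸ mem_im b)))

theorem cE (x1 : x ∈ E1 ∨ x ∈ E2) (x2 : x ∉ Q0) (a : y ∈ Q0) : ¬ Cj C1[ι z0] (ι y) (ι x) := fun e => by
  rcases x1 with x1 | x1
  · exact h.cE1 x1 x2 a e
  · refine (h.comp gam).cE1 ((gm x).1 x1) (fun i => x2 ((gm x).2.1.2 i)) ((gm y).2.1.1 a) ?_
    change Cj C1[ι (gam z0)] (ι (gam (gam y))) (ι (gam (gam x)))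
    rwa [(gm x).2.2, (gm y).2.2, show gam z0 = z0 by decide]

theorem cB {p u s : U5} (c1 : p ∈ Q0 ∧ p * p = 1 ∧ br p x ∈ Z0 ∧ br u x ∈ Z0 ∧ s * x * s⁻¹ = u ∧ x * x = 1)
    (c2 : (x * p ∈ E1 ∨ x * p ∈ E2) ∧ x * p ∉ Q0 ∧ (x * u ∈ E1 ∨ x * u ∈ E2) ∧ x * u ∉ Q0)
    (c3 : p * u * (p * u) ∉ Z0 ∧ p * u * (p * u) * (p * u * (p * u)) = 1) (a : y ∈ Q0) :
    ¬ Cj C1[ι z0] (ι y) (ι x) := fun e => by
  obtain ⟨k, hk, σ, q, m⟩ := h.ext a e
  obtain ⟨p1, p2, p3, u1, u2, xx⟩ := c1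
  have xc := self_Cb x
  have B : ∀ r, br r x ∈ Z0 → r * r = 1 → (x * r ∈ E1 ∨ x * r ∈ E2) → x * r ∉ Q0 →
      (∃ y ∈ Q0, Cj C1[ι z0] (ι y) (ι r)) → bad (σ r) := fun r r1 r2 r3 r4 ⟨y, y1, y2⟩ => by
    have rc := mem_Cb r1
    have n : σ r ∉ Q0 := fun i => h.cE r3 r4 (mul_mem m i)
      (q.mul x xc r rc ▸ q.cj hk (mul_mem xc rc)).symm
    have n' : ¬ (σ r ∈ E1 ∨ σ r ∈ E2) := fun i => h.cE i n y1 (y2.trans (q.cj hk rc))
    exact ⟨q.sq1 rc r2, n, fun i => n' (.inl i), fun i => n' (.inr i)⟩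
  have pu := mul_mem (mem_Cb p3) (mem_Cb u1)
  have b := b2 (B p p3 p2 c2.1 c2.2.1 ⟨p, p1, .refl _ _⟩) (B u u1 (by rw [← u2, conj_mul, xx]; simp) c2.2.2.1 c2.2.2.2
    ⟨y, a, e.trans (u2 ▸ (cj_s x s).mono rg_cen)⟩) (by
      rw [← q.mul p (mem_Cb p3) u (mem_Cb u1), ← q.mul _ pu _ pu]; exact q.sq1 (mul_mem pu pu) c3.2)
  rw [← q.mul p (mem_Cb p3) u (mem_Cb u1), ← q.mul _ pu _ pu] at b
  exact c3.1 (h.mem_iff.1 ((mem_N.1 (H_NZ hk) _).2 (q.eq _ (mul_mem pu pu) ▸ mem_im b)))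

theorem cI (xx : x * x = 1) (a : y ∈ Q0) (e : Cj C1[ι z0] (ι y) (ι x)) : x ∈ Q0 := by_contra fun n => by
  by_cases c : x ∈ E1 ∨ x ∈ E2
  · exact h.cE c n a e
  obtain ⟨s, -, i⟩ := b1 x ⟨xx, n, fun i => c (.inl i), fun i => c (.inr i)⟩
  have f := e.trans ((cj_s x s).mono rg_cen)
  rcases i with i | i <;> rw [i] at f
  · exact h.cB (p := k0) (s := i0) (u := i0 * (e0 * k0) * i0⁻¹) (by decide) (by decide) (by decide) a f
  · exact h.cB (p := a0) (s := e0) (u := e0 * (a0 * i0) * e0⁻¹) (by decide) (by decide) (by decide) a f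
end TM

theorem TM.scQ (h : TM ι) (a : y ∈ Q0) (e : Cj C1[ι z0] (ι y) (ι x)) : x ∈ Q0 := by_contra fun n => by
  have s : x * x ∈ Z0 := by
    obtain ⟨g, hg, e⟩ := e
    refine h.mem_iff.1 ?_
    rw [map_mul, ← e, conj_mul, ← map_mul]
    exact conj_mem (H_NZ hg) (mem_im (dQ y a))
  rcases (mem_Z0 _).1 s with s | s
  · exact n (h.cI s a e)
  obtain ⟨β, b1, b2, b3⟩ := o4 x s n
  obtain ⟨k, hk, σ, q, m⟩ := h.ext a e
  obtain ⟨β1, β2⟩ := (by decide : ∀ β ∈ [a0, b0, c0, h0, j0, k0], β ∈ Q0 ∧ β * β = 1) β b1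
  have c := mem_Cb b2
  have xc := self_Cb x
  exact n ((mul_mem_cancel_right β1).1 (h.cI b3 (mul_mem m (h.cI (q.sq1 c β2) β1 (q.cj hk c)))
    (q.mul x xc β c ▸ q.cj hk (mul_mem xc c)).symm))

end Cfsg.Agent.U2
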