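import Cfsg.Agent.U2.Wk

/-! # Finite checks for `Sc` -/

set_option autoImplicit false
set_option maxRecDepth 100000
set_option linter.unusedVariables false
set_option linter.unusedSectionVars false

namespace Cfsg.Agent.U2
open Cfsg Cfsg.Agent.BG Subgroup PHom
open Cfsg.Agent.S3F (p2)

universe u

variable {G : Type u} [Group G] [Finite G] {ι : U5 →* G} {H K M X Y : Subgroup G} {A B : Subgroup U5} {x y : U5}
  {a b g w : G}

namespace Sc
/-- the commutator -/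
def br {Γ : Type*} [Group Γ] (s x : Γ) : Γ := s * x * s⁻¹ * x⁻¹
def bad (x : U5) : Prop := x * x = 1 ∧ x ∉ Q0 ∧ x ∉ E1 ∧ x ∉ E2
instance : DecidablePred bad := fun x => inferInstanceAs (Decidable (_ ∧ _))
def three (s p q : U5) : Prop := br s p ∉ Z0 ∧ br s q ∉ Z0 ∧ br s p * br s q ∉ Z0
instance (s p q : U5) : Decidable (three s p q) := inferInstanceAs (Decidable (_ ∧ _))
def lB : List U5 := [1, z0, b0, b0 * z0, c0, c0 * z0, h0, h0 * z0, b0 * c0, b0 * c0 * z0, b0 * h0, b0 * h0 * z0,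
  c0 * h0, c0 * h0 * z0, b0 * c0 * h0, b0 * c0 * h0 * z0]
def lT : List U5 := [j0, k0, j0 * k0]
def lb : List U5 := Wk.il.filter fun x => !pQ0 x && !pE1 x && !pE2 x
theorem e1 : ∀ s : U5, (s.a = false ∧ s.i = false) ∨ three s e0 f0 ∨ three s b0 e0 := by decide +kernel
theorem e2 : ∀ s : U5, br s e0 ∈ L4 → br s f0 ∈ L4 → br s b0 ∈ L4 → s.a = false ∧ s.i = false := by decide +kernel
theorem e3' : (U5.all.all fun s => s.a || s.i || lB.all fun y => pZ0 (br s y)) = true := by decide +kernel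
theorem e3 (s : U5) (a : s.a = false ∧ s.i = false) (b : y ∈ lB) : br s y ∈ Z0 := by
  have := List.all_eq_true.1 e3' s (U5.mem_all s)
  simp only [a.1, a.2, Bool.false_or] at this
  exact List.all_eq_true.1 this y b
theorem e4 : ∀ y ∈ E1, y ∈ Q0 → ∀ w ∈ [1, z0, h0, h0 * z0], w * y ∈ lB := by decide +kernel
theorem e5 : ∀ x ∈ E1, x ∉ Q0 → (∃ t ∈ lT, br t x ∈ Z0) ∧ ∃ t ∈ lT, br t x ∉ Z0 := by decide +kernel
theorem e6 : ∀ x ∈ E1, ∀ t ∈ lT, br t x ∈ L4 := by decide +kernel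
theorem e7 : ∀ t ∈ lT, t * t = 1 ∧ ∃ w ∈ [e0, f0], br t w = h0 := by decide +kernel
theorem e8 : ∀ s : U5, s.a = false ∧ s.i = false → ∃ t ∈ [1, j0, k0, j0 * k0], t⁻¹ * s ∈ E1 := by decide +kernel
theorem o4 : ∀ x, x * x = z0 → x ∉ Q0 → ∃ β ∈ [a0, b0, c0, h0, j0, k0], br β x ∈ Z0 ∧ x * β * (x * β) = 1 := by
  decide +kernel
theorem b1 : ∀ x, bad x → ∃ s ∈ ([1, a0].flatMap fun p => [1, i0].flatMap fun q => [1, f0].flatMap fun r =>
    [p * q * r, p * q * r * c0]) ++ ([1, k0].flatMap fun p => [1, e0].flatMap fun q => [1, f0].flatMap fun r =>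
    [p * q * r, p * q * r * h0]), s * x * s⁻¹ = e0 * k0 ∨ s * x * s⁻¹ = a0 * i0 := by decide +kernel
theorem b2' : (lb.all fun k => lb.all fun u => pZ0 (k * u * (k * u)) || !Wk.sq1 (k * u * (k * u))) = true := by
  decide +kernel
theorem mem_lb (a : bad x) : x ∈ lb := List.mem_filter.2 ⟨Wk.mem_il a.1, by
  have h1 : pQ0 x = false := Bool.eq_false_iff.2 a.2.1
  have h2 : pE1 x = false := Bool.eq_false_iff.2 a.2.2.1
  have h3 : pE2 x = false := Bool.eq_false_iff.2 a.2.2.2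
  simp [h1, h2, h3]⟩
theorem b2 (a : bad x) (b : bad y) (e : x * y * (x * y) * (x * y * (x * y)) = 1) : x * y * (x * y) ∈ Z0 := by
  have := List.all_eq_true.1 (List.all_eq_true.1 b2' x (mem_lb a)) y (mem_lb b)
  rw [(Wk.sq_iff _).1.2 e, Bool.not_true, Bool.or_false] at this
  exact this
theorem gm : ∀ x, (x ∈ E2 → gam x ∈ E1) ∧ (x ∈ Q0 ↔ gam x ∈ Q0) ∧ gam (gam x) = x := by decide +kernel
theorem Z_Q : ∀ x ∈ Z0, x ∈ Q0 := by decide +kernel
end Sc

end Cfsg.Agent.U2
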