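import Mathlib.Algebra.Ring.BooleanRing
import Cfsg.Agent.GF.Main

/-! # The group `U5` of unitriangular `5 × 5` matrices over `F₂`

The fields are the entries `a = 12, b = 13, c = 14, z = 15, e = 23, f = 24, h = 25, i = 34, j = 35, k = 45`.
Every statement about finitely many elements is checked by `decide +kernel`. -/

set_option autoImplicit false

namespace Cfsg.Agent.U2
open Cfsg Cfsg.Agent.BG Subgroup

@[ext] structure U5 where
  a : Bool
  b : Bool
  c : Bool
  z : Bool
  e : Bool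
  f : Bool
  h : Bool
  i : Bool
  j : Bool
  k : Bool
deriving DecidableEq

namespace U5
def bs : List Bool := [false, true]
def all : List U5 := bs.flatMap fun a => bs.flatMap fun e => bs.flatMap fun i => bs.flatMap fun k =>
  bs.flatMap fun b => bs.flatMap fun f => bs.flatMap fun j => bs.flatMap fun c => bs.flatMap fun h =>
  bs.map fun z => ⟨a, b, c, z, e, f, h, i, j, k⟩
theorem mem_bs : ∀ x, x ∈ bs := by decide
theorem mem_all (x : U5) : x ∈ all := by
  obtain ⟨a, b, c, z, e, f, h, i, j, k⟩ := x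
  simp only [all, List.mem_flatMap, List.mem_map]
  exact ⟨a, mem_bs a, e, mem_bs e, i, mem_bs i, k, mem_bs k, b, mem_bs b, f, mem_bs f, j, mem_bs j, c, mem_bs c,
    h, mem_bs h, z, mem_bs z, rfl⟩
instance (p : U5 → Prop) [DecidablePred p] : Decidable (∀ x, p x) :=
  decidable_of_iff (∀ x ∈ all, p x) ⟨fun h x => h x (mem_all x), fun h x _ => h x⟩
instance (p : U5 → Prop) [DecidablePred p] : Decidable (∃ x, p x) :=
  decidable_of_iff (∃ x ∈ all, p x) ⟨fun ⟨x, _, h⟩ => ⟨x, h⟩, fun ⟨x, h⟩ => ⟨x, mem_all x, h⟩⟩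
instance : Fintype U5 := Fintype.ofList all mem_all

def mul (x y : U5) : U5 := ⟨x.a ^^ y.a, x.b ^^ y.b ^^ (x.a && y.e), x.c ^^ y.c ^^ (x.a && y.f) ^^ (x.b && y.i),
  x.z ^^ y.z ^^ (x.a && y.h) ^^ (x.b && y.j) ^^ (x.c && y.k), x.e ^^ y.e, x.f ^^ y.f ^^ (x.e && y.i),
  x.h ^^ y.h ^^ (x.e && y.j) ^^ (x.f && y.k), x.i ^^ y.i, x.j ^^ y.j ^^ (x.i && y.k), x.k ^^ y.k⟩
def inv (x : U5) : U5 :=
  let j := x.j ^^ (x.i && x.k)
  let f := x.f ^^ (x.e && x.i)
  let h := x.h ^^ (x.e && j) ^^ (x.f && x.k)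
  ⟨x.a, x.b ^^ (x.a && x.e), x.c ^^ (x.a && f) ^^ (x.b && x.i), x.z ^^ (x.a && h) ^^ (x.b && j) ^^ (x.c && x.k),
    x.e, f, h, x.i, j, x.k⟩
instance : Mul U5 := ⟨mul⟩
instance : One U5 := ⟨⟨false, false, false, false, false, false, false, false, false, false⟩⟩
instance : Inv U5 := ⟨inv⟩

theorem xor_eq (x y : Bool) : (x ^^ y) = x + y := rfl
theorem and_eq (x y : Bool) : (x && y) = x * y := rfl
theorem assoc (x y z : U5) : mul (mul x y) z = mul x (mul y z) := by
  ext <;> simp only [mul, xor_eq, and_eq] <;> ring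

instance : Group U5 := Group.ofLeftAxioms assoc (by decide +kernel) (by decide +kernel)

def eqv : U5 ≃ Bool × Bool × Bool × Bool × Bool × Bool × Bool × Bool × Bool × Bool :=
  ⟨fun x => (x.a, x.b, x.c, x.z, x.e, x.f, x.h, x.i, x.j, x.k),
    fun ⟨a, b, c, z, e, f, h, i, j, k⟩ => ⟨a, b, c, z, e, f, h, i, j, k⟩, fun _ => rfl, fun _ => rfl⟩
theorem card : Nat.card U5 = 1024 := by rw [Nat.card_congr eqv]; simp
theorem nodup_all : all.Nodup := by
  have : all.toFinset = Finset.univ := Finset.ext fun x => by simp [mem_all]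
  refine Multiset.toFinset_card_eq_card_iff_nodup.1 (show all.toFinset.card = all.length from ?_)
  rw [this, Finset.card_univ, ← Nat.card_eq_fintype_card, card]
  decide +kernel

/-- a subgroup given by a test -/
def sub (p : U5 → Bool) (h1 : p 1 = true) (h2 : ∀ x y, p x = true → p y = true → p (x * y) = true) : Subgroup U5 :=
  ⟨⟨⟨{x | p x = true}, fun hx hy => h2 _ _ hx hy⟩, h1⟩, fun {x} hx => by
    have : x⁻¹ = x * x * (x * x) * (x * x * x) := (by decide +kernel : ∀ x : U5, x⁻¹ = x * x * (x * x) * (x * x * x)) x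
    have h := h2 _ _ hx hx
    exact this ▸ h2 _ _ (h2 _ _ h h) (h2 _ _ h hx)⟩
end U5
open U5

def a0 : U5 := ⟨true, false, false, false, false, false, false, false, false, false⟩
def b0 : U5 := ⟨false, true, false, false, false, false, false, false, false, false⟩
def c0 : U5 := ⟨false, false, true, false, false, false, false, false, false, false⟩
def z0 : U5 := ⟨false, false, false, true, false, false, false, false, false, false⟩
def e0 : U5 := ⟨false, false, false, false, true, false, false, false, false, false⟩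
def f0 : U5 := ⟨false, false, false, false, false, true, false, false, false, false⟩
def h0 : U5 := ⟨false, false, false, false, false, false, true, false, false, false⟩
def i0 : U5 := ⟨false, false, false, false, false, false, false, true, false, false⟩
def j0 : U5 := ⟨false, false, false, false, false, false, false, false, true, false⟩
def k0 : U5 := ⟨false, false, false, false, false, false, false, false, false, true⟩
/-- the rank two involutions `v = c h`, `v1`, `v2 = v v1` of `U` -/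
def v0 : U5 := c0 * h0
def v1 : U5 := z0 * f0 * h0

def pZ0 (x : U5) : Bool := !x.a && !x.b && !x.c && !x.e && !x.f && !x.h && !x.i && !x.j && !x.k
def pR4 (x : U5) : Bool := !x.a && !x.b && !x.e && !x.f && !x.h && !x.i && !x.j && !x.k
def pL4 (x : U5) : Bool := !x.a && !x.b && !x.c && !x.e && !x.f && !x.i && !x.j && !x.k
def pR8 (x : U5) : Bool := !x.a && !x.e && !x.f && !x.h && !x.i && !x.j && !x.k
def pL8 (x : U5) : Bool := !x.a && !x.b && !x.c && !x.e && !x.f && !x.i && !x.k
def pW8 (x : U5) : Bool := !x.a && !x.b && !x.e && !x.f && !x.i && !x.j && !x.k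
def pU0 (x : U5) : Bool := !x.a && !x.b && !x.e && !x.i && !x.j && !x.k
def pE1 (x : U5) : Bool := !x.a && !x.i && !x.j && !x.k
def pE2 (x : U5) : Bool := !x.a && !x.b && !x.e && !x.k
def pT0 (x : U5) : Bool := !x.a && !x.k
def pQ0 (x : U5) : Bool := !x.e && !x.f && !x.i
def pA1 (x : U5) : Bool := !x.e && !x.f && !x.h && !x.i && !x.j && !x.k
def pA2 (x : U5) : Bool := !x.a && !x.b && !x.c && !x.e && !x.f && !x.i
def pQ1 (x : U5) : Bool := !x.i
def pQ2 (x : U5) : Bool := !x.e
def pQf (x : U5) : Bool := !x.e && !x.i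
def pM1 (x : U5) : Bool := !x.a
def pM2 (x : U5) : Bool := !x.k
def pV0 (x : U5) : Bool := !x.a && !x.b && !x.e && !x.i && !x.j && !x.k && (x.z == x.f) && (x.h == (x.c ^^ x.f))
def pSv (x : U5) : Bool := x.a == x.k

/-- the centre `⟨z⟩` -/
def Z0 : Subgroup U5 := sub pZ0 rfl fun x y a b => by
  change pZ0 (U5.mul x y) = true
  simp_all [pZ0, U5.mul]
/-- `⟨c, z⟩` -/
def R4 : Subgroup U5 := sub pR4 rfl fun x y a b => by
  change pR4 (U5.mul x y) = true
  simp_all [pR4, U5.mul]
/-- `⟨h, z⟩` -/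
def L4 : Subgroup U5 := sub pL4 rfl fun x y a b => by
  change pL4 (U5.mul x y) = true
  simp_all [pL4, U5.mul]
/-- `⟨b, c, z⟩` -/
def R8 : Subgroup U5 := sub pR8 rfl fun x y a b => by
  change pR8 (U5.mul x y) = true
  simp_all [pR8, U5.mul]
/-- `⟨j, h, z⟩` -/
def L8 : Subgroup U5 := sub pL8 rfl fun x y a b => by
  change pL8 (U5.mul x y) = true
  simp_all [pL8, U5.mul]
/-- `⟨c, h, z⟩` -/
def W8 : Subgroup U5 := sub pW8 rfl fun x y a b => by
  change pW8 (U5.mul x y) = true
  simp_all [pW8, U5.mul]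
/-- `⟨c, z, f, h⟩ = E1 ⊓ E2` -/
def U0 : Subgroup U5 := sub pU0 rfl fun x y a b => by
  change pU0 (U5.mul x y) = true
  simp_all [pU0, U5.mul]
/-- `⟨b, c, z, e, f, h⟩`, elementary abelian of order `64` -/
def E1 : Subgroup U5 := sub pE1 rfl fun x y a b => by
  change pE1 (U5.mul x y) = true
  simp_all [pE1, U5.mul]
/-- `⟨c, z, f, h, i, j⟩`, elementary abelian of order `64` -/
def E2 : Subgroup U5 := sub pE2 rfl fun x y a b => by
  change pE2 (U5.mul x y) = true
  simp_all [pE2, U5.mul]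
/-- `E1 E2` -/
def T0 : Subgroup U5 := sub pT0 rfl fun x y a b => by
  change pT0 (U5.mul x y) = true
  simp_all [pT0, U5.mul]
/-- extraspecial of order `128` -/
def Q0 : Subgroup U5 := sub pQ0 rfl fun x y a b => by
  change pQ0 (U5.mul x y) = true
  simp_all [pQ0, U5.mul]
/-- `⟨a, b, c, z⟩` -/
def A1 : Subgroup U5 := sub pA1 rfl fun x y a b => by
  change pA1 (U5.mul x y) = true
  simp_all [pA1, U5.mul]
/-- `⟨z, h, j, k⟩` -/
def A2 : Subgroup U5 := sub pA2 rfl fun x y a b => by
  change pA2 (U5.mul x y) = true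
  simp_all [pA2, U5.mul]
/-- `Q ⟨e, f⟩` -/
def Q1 : Subgroup U5 := sub pQ1 rfl fun x y a b => by
  change pQ1 (U5.mul x y) = true
  simp_all [pQ1, U5.mul]
/-- `Q ⟨f, i⟩` -/
def Q2 : Subgroup U5 := sub pQ2 rfl fun x y a b => by
  change pQ2 (U5.mul x y) = true
  simp_all [pQ2, U5.mul]
/-- `Q ⟨f⟩` -/
def Qf : Subgroup U5 := sub pQf rfl fun x y a b => by
  change pQf (U5.mul x y) = true
  simp_all [pQf, U5.mul]
/-- the maximal subgroup `a = 0` -/
def M1 : Subgroup U5 := sub pM1 rfl fun x y a b => by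
  change pM1 (U5.mul x y) = true
  simp_all [pM1, U5.mul]
/-- the maximal subgroup `k = 0` -/
def M2 : Subgroup U5 := sub pM2 rfl fun x y a b => by
  change pM2 (U5.mul x y) = true
  simp_all [pM2, U5.mul]
/-- `{1, v, v1, v v1}` -/
def V0 : Subgroup U5 := sub pV0 rfl fun x y a b => by
  change pV0 (U5.mul x y) = true
  simp_all [pV0, U5.mul]
  cases x.c <;> cases y.c <;> simp
/-- `C(v) = T ⟨a k⟩` -/
def Sv : Subgroup U5 := sub pSv rfl fun x y a b => by
  change pSv (U5.mul x y) = true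
  simp_all [pSv, U5.mul]

instance : DecidablePred (· ∈ Z0) := fun x => inferInstanceAs (Decidable (pZ0 x = true))
instance : DecidablePred (· ∈ R4) := fun x => inferInstanceAs (Decidable (pR4 x = true))
instance : DecidablePred (· ∈ L4) := fun x => inferInstanceAs (Decidable (pL4 x = true))
instance : DecidablePred (· ∈ R8) := fun x => inferInstanceAs (Decidable (pR8 x = true))
instance : DecidablePred (· ∈ L8) := fun x => inferInstanceAs (Decidable (pL8 x = true))
instance : DecidablePred (· ∈ W8) := fun x => inferInstanceAs (Decidable (pW8 x = true))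
instance : DecidablePred (· ∈ U0) := fun x => inferInstanceAs (Decidable (pU0 x = true))
instance : DecidablePred (· ∈ E1) := fun x => inferInstanceAs (Decidable (pE1 x = true))
instance : DecidablePred (· ∈ E2) := fun x => inferInstanceAs (Decidable (pE2 x = true))
instance : DecidablePred (· ∈ T0) := fun x => inferInstanceAs (Decidable (pT0 x = true))
instance : DecidablePred (· ∈ Q0) := fun x => inferInstanceAs (Decidable (pQ0 x = true))
instance : DecidablePred (· ∈ A1) := fun x => inferInstanceAs (Decidable (pA1 x = true))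
instance : DecidablePred (· ∈ A2) := fun x => inferInstanceAs (Decidable (pA2 x = true))
instance : DecidablePred (· ∈ Q1) := fun x => inferInstanceAs (Decidable (pQ1 x = true))
instance : DecidablePred (· ∈ Q2) := fun x => inferInstanceAs (Decidable (pQ2 x = true))
instance : DecidablePred (· ∈ Qf) := fun x => inferInstanceAs (Decidable (pQf x = true))
instance : DecidablePred (· ∈ M1) := fun x => inferInstanceAs (Decidable (pM1 x = true))
instance : DecidablePred (· ∈ M2) := fun x => inferInstanceAs (Decidable (pM2 x = true))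
instance : DecidablePred (· ∈ V0) := fun x => inferInstanceAs (Decidable (pV0 x = true))
instance : DecidablePred (· ∈ Sv) := fun x => inferInstanceAs (Decidable (pSv x = true))
instance (t : U5) : DecidablePred (· ∈ C1[t]) := fun y => decidable_of_iff (y * t = t * y) mem_C1.symm

theorem card_sub (A : Subgroup U5) [DecidablePred (· ∈ A)] : Nat.card A = (all.filter (· ∈ A)).length := by
  rw [Nat.card_eq_fintype_card, Fintype.card_subtype, ← List.toFinset_card_of_nodup (nodup_all.filter _)]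
  exact congrArg Finset.card (Finset.ext fun x => by simp [mem_all])

theorem card_Z0 : #Z0 = 2 := (card_sub _).trans (by decide +kernel)
theorem card_R4 : #R4 = 4 := (card_sub _).trans (by decide +kernel)
theorem card_L4 : #L4 = 4 := (card_sub _).trans (by decide +kernel)
theorem card_R8 : #R8 = 8 := (card_sub _).trans (by decide +kernel)
theorem card_L8 : #L8 = 8 := (card_sub _).trans (by decide +kernel)
theorem card_W8 : #W8 = 8 := (card_sub _).trans (by decide +kernel)
theorem card_U0 : #U0 = 16 := (card_sub _).trans (by decide +kernel)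
theorem card_E1 : #E1 = 64 := (card_sub _).trans (by decide +kernel)
theorem card_E2 : #E2 = 64 := (card_sub _).trans (by decide +kernel)
theorem card_T0 : #T0 = 256 := (card_sub _).trans (by decide +kernel)
theorem card_Q0 : #Q0 = 128 := (card_sub _).trans (by decide +kernel)
theorem card_A1 : #A1 = 16 := (card_sub _).trans (by decide +kernel)
theorem card_A2 : #A2 = 16 := (card_sub _).trans (by decide +kernel)
theorem card_Q1 : #Q1 = 512 := (card_sub _).trans (by decide +kernel)
theorem card_Q2 : #Q2 = 512 := (card_sub _).trans (by decide +kernel)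
theorem card_Qf : #Qf = 256 := (card_sub _).trans (by decide +kernel)
theorem card_M1 : #M1 = 512 := (card_sub _).trans (by decide +kernel)
theorem card_M2 : #M2 = 512 := (card_sub _).trans (by decide +kernel)
theorem card_V0 : #V0 = 4 := (card_sub _).trans (by decide +kernel)
theorem card_Sv : #Sv = 512 := (card_sub _).trans (by decide +kernel)

/-- rank one elements of `U` (among them `z, c, h, f`) -/
def rk1 (x : U5) : Prop := x ∈ U0 ∧ x ≠ 1 ∧ (x.c && x.h) = (x.z && x.f)
/-- rank two elements of `U` (among them `v = c h`, `f z`) -/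
def rk2 (x : U5) : Prop := x ∈ U0 ∧ (x.c && x.h) ≠ (x.z && x.f)
instance : DecidablePred rk1 := fun x => inferInstanceAs (Decidable (_ ∧ _))
instance : DecidablePred rk2 := fun x => inferInstanceAs (Decidable (_ ∧ _))

def pw (b : Bool) (x : U5) : U5 := cond b x 1
theorem nf : ∀ x : U5, x = pw x.k k0 * pw x.i i0 * pw x.j j0 * pw x.e e0 * pw x.f f0 * pw x.h h0 * pw x.a a0 *
    pw x.b b0 * pw x.c c0 * pw x.z z0 := by decide +kernel
/-- induction over the generators `a, e, i, k` -/
theorem top_le_of {A : Subgroup U5} (a : a0 ∈ A) (e : e0 ∈ A) (i : i0 ∈ A) (k : k0 ∈ A) : ⊤ ≤ A := fun x _ => by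
  have c : ∀ {x y z : U5}, x ∈ A → y ∈ A → x * y * (x * y) = z → z ∈ A := fun a b e =>
    e ▸ mul_mem (mul_mem a b) (mul_mem a b)
  have p : ∀ (b : Bool) {x : U5}, x ∈ A → pw b x ∈ A := fun b _ a => by
    cases b
    exacts [one_mem _, a]
  have b : b0 ∈ A := c a e (by decide)
  have f : f0 ∈ A := c e i (by decide)
  have j : j0 ∈ A := c i k (by decide)
  have c' : c0 ∈ A := c b i (by decide)
  have h : h0 ∈ A := c e j (by decide)
  have z : z0 ∈ A := c a h (by decide)
  rw [nf x]
  exact mul_mem (mul_mem (mul_mem (mul_mem (mul_mem (mul_mem (mul_mem (mul_mem (mul_mem (p _ k) (p _ i)) (p _ j))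
    (p _ e)) (p _ f)) (p _ h)) (p _ a)) (p _ b)) (p _ c')) (p _ z)
theorem n_of (A : Subgroup U5) (h : ∀ s ∈ [a0, e0, i0, k0], ∀ x ∈ A, s * x * s⁻¹ ∈ A) : ⊤ ≤ N[A] :=
  have m : ∀ s ∈ [a0, e0, i0, k0], s ∈ N[A] := fun s a => mem_N_of (h s a)
  top_le_of (m _ (by simp)) (m _ (by simp)) (m _ (by simp)) (m _ (by simp))
theorem le_of {A B : Subgroup U5} (h : ∀ x ∈ A, x ∈ B) : A ≤ B := h
theorem eq_of {A B : Subgroup U5} (h : ∀ x, x ∈ A ↔ x ∈ B) : A = B := Subgroup.ext h

theorem n_Z0 : ⊤ ≤ N[Z0] := n_of _ (by decide +kernel)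
theorem n_R4 : ⊤ ≤ N[R4] := n_of _ (by decide +kernel)
theorem n_L4 : ⊤ ≤ N[L4] := n_of _ (by decide +kernel)
theorem n_R8 : ⊤ ≤ N[R8] := n_of _ (by decide +kernel)
theorem n_L8 : ⊤ ≤ N[L8] := n_of _ (by decide +kernel)
theorem n_W8 : ⊤ ≤ N[W8] := n_of _ (by decide +kernel)
theorem n_U0 : ⊤ ≤ N[U0] := n_of _ (by decide +kernel)
theorem n_E1 : ⊤ ≤ N[E1] := n_of _ (by decide +kernel)
theorem n_E2 : ⊤ ≤ N[E2] := n_of _ (by decide +kernel)
theorem n_T0 : ⊤ ≤ N[T0] := n_of _ (by decide +kernel)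
theorem n_Q0 : ⊤ ≤ N[Q0] := n_of _ (by decide +kernel)
theorem n_A1 : ⊤ ≤ N[A1] := n_of _ (by decide +kernel)
theorem n_A2 : ⊤ ≤ N[A2] := n_of _ (by decide +kernel)
theorem n_Q1 : ⊤ ≤ N[Q1] := n_of _ (by decide +kernel)
theorem n_Q2 : ⊤ ≤ N[Q2] := n_of _ (by decide +kernel)
theorem n_Qf : ⊤ ≤ N[Qf] := n_of _ (by decide +kernel)
theorem n_M1 : ⊤ ≤ N[M1] := n_of _ (by decide +kernel)
theorem n_M2 : ⊤ ≤ N[M2] := n_of _ (by decide +kernel)
theorem n_Sv : ⊤ ≤ N[Sv] := n_of _ (by decide +kernel)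

theorem z0_cen : ∀ x, x * z0 = z0 * x := by decide +kernel
theorem mem_Z0 : ∀ x, x ∈ Z0 ↔ x = 1 ∨ x = z0 := by decide +kernel
theorem mem_V0 : ∀ x, x ∈ V0 ↔ x = 1 ∨ x = v0 ∨ x = v1 ∨ x = v0 * v1 := by decide +kernel
theorem Z0_eq : Z0 = zpowers z0 := (eq_zpowers_of_prime (card_Z0.symm ▸ Nat.prime_two) (by decide) (by decide)).symm
theorem C_v : C1[v0] = Sv := eq_of (by decide +kernel)
theorem ab_of (A : Subgroup U5) (h2 : ∀ x ∈ A, x * x = 1) : Abelem 2 A :=
  ⟨le_C_iff.2 fun x a y b => by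
    have i : ∀ x ∈ A, x⁻¹ = x := fun x a => inv_eq_of_mul_eq_one_right (h2 x a)
    rw [← i _ (mul_mem a b), mul_inv_rev, i x a, i y b], fun x a => (pow_two x).trans (h2 x a)⟩
theorem ab_E1 : Abelem 2 E1 := ab_of _ (by decide +kernel)
theorem ab_E2 : Abelem 2 E2 := ab_of _ (by decide +kernel)
theorem ab_A1 : Abelem 2 A1 := ab_of _ (by decide +kernel)
theorem ab_A2 : Abelem 2 A2 := ab_of _ (by decide +kernel)
theorem ab_U0 : Abelem 2 U0 := ab_of _ (by decide +kernel)
theorem ab_R8 : Abelem 2 R8 := ab_of _ (by decide +kernel)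
theorem ab_W8 : Abelem 2 W8 := ab_of _ (by decide +kernel)
theorem ab_V0 : Abelem 2 V0 := ab_of _ (by decide +kernel)

/-- an automorphism given by an involution -/
def aut (φ : U5 → U5) (h1 : ∀ x, φ (φ x) = x) (h0 : φ 1 = 1)
    (h : ∀ s ∈ [a0, e0, i0, k0], ∀ x, φ (s * x) = φ s * φ x) : U5 ≃* U5 :=
  ⟨⟨φ, φ, h1, h1⟩, fun x y => by
    let A : Subgroup U5 := sub (fun s => decide (∀ x, φ (s * x) = φ s * φ x)) (by simp [h0]) fun s t a b => by
      simp only [decide_eq_true_eq] at a b ⊢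
      intro x
      rw [mul_assoc, a, a, b, mul_assoc]
    have m : ∀ s ∈ [a0, e0, i0, k0], s ∈ A := fun s a => decide_eq_true (h s a)
    exact of_decide_eq_true (top_le_of (m _ (by simp)) (m _ (by simp)) (m _ (by simp)) (m _ (by simp)) (mem_top x)) y⟩

def fl (x : U5) : U5 := ⟨x.k, x.j, x.h, x.z, x.i, x.f, x.c, x.e, x.b, x.a⟩
/-- the graph automorphism: `a ↔ k`, `e ↔ i`, `b ↔ j`, `c ↔ h` -/
def gam : U5 ≃* U5 := aut (fun x => fl x⁻¹) (by decide +kernel) (by decide) (by decide +kernel)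
def tf (x : U5) : U5 := ⟨x.a, x.b, x.c, x.z ^^ x.b ^^ (x.a && x.b), x.e, x.f, x.h ^^ x.b ^^ (x.e && x.a), x.i, x.j ^^ x.a, x.k⟩
/-- the automorphism `a ↦ a j`, `b ↦ b h z` -/
def tau : U5 ≃* U5 := aut tf (by decide +kernel) (by decide) (by decide +kernel)
theorem gam_ap (x : U5) : gam x = fl x⁻¹ := rfl
theorem tau_ap (x : U5) : tau x = tf x := rfl

end Cfsg.Agent.U2
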