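import Cfsg.Agent.U2.Cz
import Cfsg.Agent.SO.TT
import Cfsg.Agent.Inv.Basic

/-! # Transfer -/

set_option autoImplicit false
set_option linter.unusedVariables false
set_option linter.unusedSectionVars false
set_option maxRecDepth 100000

namespace Cfsg.Agent.U2
open Cfsg Cfsg.Agent.BG Subgroup PHom
open Cfsg.Agent.S3F (p2)

universe u

variable {G : Type u} [Group G] [Finite G] {ι : U5 →* G} {H K M X Y : Subgroup G} {A B : Subgroup U5} {x y : U5}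
  {a b g w : G}

namespace Tr
open U5
def pQe (x : U5) : Bool := !x.f && !x.i
def pYk (x : U5) : Bool := !x.a && !x.c && !x.e && !x.f && !x.i && !x.j
def pYc (x : U5) : Bool := !x.a && !x.e && !x.f && !x.i && !x.j && !x.k
def pX (x : U5) : Bool := !x.a && !x.e && !x.f && !x.i && !x.j
def Qe : Subgroup U5 := sub pQe rfl fun x y a b => by
  change pQe (U5.mul x y) = true
  simp_all [pQe, U5.mul]
def Yk : Subgroup U5 := sub pYk rfl fun x y a b => by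
  change pYk (U5.mul x y) = true
  simp_all [pYk, U5.mul]
def Yc : Subgroup U5 := sub pYc rfl fun x y a b => by
  change pYc (U5.mul x y) = true
  simp_all [pYc, U5.mul]
instance : DecidablePred (· ∈ Qe) := fun x => inferInstanceAs (Decidable (pQe x = true))
instance : DecidablePred (· ∈ Yk) := fun x => inferInstanceAs (Decidable (pYk x = true))
instance : DecidablePred (· ∈ Yc) := fun x => inferInstanceAs (Decidable (pYc x = true))
theorem card_Yk : #Yk = 16 := (card_sub _).trans (by decide +kernel)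
theorem card_Yc : #Yc = 16 := (card_sub _).trans (by decide +kernel)
theorem M2_mul (x y : U5) : x * y ∈ M2 ↔ (x ∈ M2 ↔ y ∈ M2) := by
  change pM2 (U5.mul x y) = true ↔ (pM2 x = true ↔ pM2 y = true)
  simp only [pM2, U5.mul]
  cases x.k <;> cases y.k <;> simp
theorem g3a : ∀ y : U5, (y.a && y.e) = false → (y.e && y.i) = false → (y.i && y.k) = false → y * y ∈ W8 := by
  decide +kernel
theorem g3b : ∀ y : U5, y * y = 1 → (y.a && y.e) = false ∧ (y.e && y.i) = false ∧ (y.i && y.k) = false := by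
  decide +kernel
theorem g3 (x u : U5) (e : x * x = 1) : x * (u * u) * (x * (u * u)) ∈ W8 := by
  obtain ⟨i, j, l⟩ := g3b x e
  have e1 : (x * (u * u)).a = x.a := by change (x.a ^^ (u.a ^^ u.a)) = x.a; simp
  have e2 : (x * (u * u)).e = x.e := by change (x.e ^^ (u.e ^^ u.e)) = x.e; simp
  have e3 : (x * (u * u)).i = x.i := by change (x.i ^^ (u.i ^^ u.i)) = x.i; simp
  have e4 : (x * (u * u)).k = x.k := by change (x.k ^^ (u.k ^^ u.k)) = x.k; simp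
  exact g3a _ (by rw [e1, e2, i]) (by rw [e2, e3, j]) (by rw [e3, e4, l])
theorem w8 : ∀ w ∈ W8, w = 1 ∨ rk2 w ∨ w = z0 ∨ (w ≠ z0 ∧ ∃ t ∈ [i0, i0 * j0], b0 * t * (b0 * t) = w) ∨
    (w = h0 ∨ w = h0 * z0) := by decide +kernel
theorem cR : ∀ w ∈ [c0, c0 * z0], ∀ x, x ∈ C1[w] ↔ x ∈ M2 := by decide +kernel
theorem cL : ∀ w ∈ [h0, h0 * z0], ∀ x, x ∈ C1[w] ↔ x ∈ M1 := by decide +kernel
theorem T_iff : ∀ x, x ∈ T0 ↔ x ∈ M1 ∧ x ∈ M2 := by decide +kernel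
theorem cR' : ∀ t ∈ [i0, i0 * j0], b0 * t * (b0 * t) ∈ [c0, c0 * z0] ∧ t ∈ E2 := by decide +kernel
theorem e_mul (x y : U5) : (x * y).e = (x.e ^^ y.e) := rfl
theorem Qe_iff : ∀ t ∈ Qe, t ∈ Q0 ∨ t * e0 ∈ Q0 := by decide +kernel
theorem Q_Qe : Q0 ≤ Qe := le_of (by decide +kernel)
theorem Q_Q2 : Q0 ≤ Q2 := le_of (by decide +kernel)
theorem E1_Q1 : E1 ≤ Q1 := le_of (by decide +kernel)
theorem E2_Q2 : E2 ≤ Q2 := le_of (by decide +kernel)
theorem Yc_E1 : Yc ≤ E1 := le_of (by decide +kernel)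
theorem Yk_Q : Yk ≤ Q0 := le_of (by decide +kernel)
theorem Q1_sup : Q1 = Q0 ⊔ E1 := le_antisymm (fun x a => by
  obtain ⟨y, b, c⟩ := (by decide +kernel : ∀ x ∈ Q1, ∃ y ∈ [1, e0, f0, e0 * f0], x * y⁻¹ ∈ Q0) x a
  rw [← inv_mul_cancel_right x y]
  exact mul_mem (mem_sup_left c) (mem_sup_right ((by decide : ∀ y ∈ [1, e0, f0, e0 * f0], y ∈ E1) y b)))
  (sup_le (le_of (by decide +kernel)) E1_Q1)
theorem nQ1 (A : Subgroup U5) (h : ∀ s ∈ [a0, b0, c0, z0, e0, f0, h0, j0, k0], ∀ x ∈ A, s * x * s⁻¹ ∈ A) :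
    Q1 ≤ N[A] := fun x a => by
  have p : ∀ (b : Bool), ∀ s ∈ [a0, b0, c0, z0, e0, f0, h0, j0, k0], pw b s ∈ N[A] := fun b s i => by
    cases b
    exacts [one_mem _, mem_N_of (h s i)]
  have i : x.i = false := by simpa [pQ1] using (show pQ1 x = true from a)
  rw [nf x, i]
  exact mul_mem (mul_mem (mul_mem (mul_mem (mul_mem (mul_mem (mul_mem (mul_mem (mul_mem (p _ _ (by simp)) (one_mem _))
    (p _ _ (by simp))) (p _ _ (by simp))) (p _ _ (by simp))) (p _ _ (by simp))) (p _ _ (by simp))) (p _ _ (by simp)))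
    (p _ _ (by simp))) (p _ _ (by simp))
theorem n_Qe : Q1 ≤ N[Qe] := nQ1 _ (by decide +kernel)
theorem n_Yk : Q1 ≤ N[Yk] := nQ1 _ (by decide +kernel)
theorem n_Yc : Q1 ≤ N[Yc] := nQ1 _ (by decide +kernel)
theorem nS : ∀ s, s * e0 * s⁻¹ ∈ Qe → s ∈ Q1 := by decide +kernel
theorem cs1 : ∀ y, y * y = 1 → y ∈ Q2 ∨ y ∈ Qe ∨ i0 * y * i0⁻¹ ∈ Qe := by decide +kernel
theorem cs2 : ∀ y ∈ E1, y ∈ Qf ∨ y ∈ Qe ∨ i0 * y * i0⁻¹ ∈ Qe := by decide +kernel
theorem q2c (s t : U5) (a : s ∈ Q2) (b : t ∈ Q2) : s * t * s⁻¹ * t⁻¹ ∈ Q0 := by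
  change pQ0 (U5.mul (U5.mul (U5.mul s t) (U5.inv s)) (U5.inv t)) = true
  change pQ2 s = true at a
  change pQ2 t = true at b
  simp only [pQ0, pQ2, U5.mul, U5.inv, Bool.not_eq_true'] at *
  rw [a, b]
  cases s.f <;> cases t.f <;> cases s.i <;> cases t.i <;> rfl
theorem F1 (q y : U5) (a : q ∈ Q0) (b : y ∈ Qe) (n : y ∉ Q0) (e : q * y = y * q) : pX q = true := by
  have := Wk.cm_of e
  change pQ0 q = true at a
  change pQe y = true at b
  change ¬ pQ0 y = true at n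
  simp_all [Wk.cm, Wk.cmZ, pQ0, pQe, pX]
def lX : List U5 := all.filter pX
theorem mem_lX {x : U5} (h : pX x = true) : x ∈ lX := List.mem_filter.2 ⟨mem_all x, h⟩
theorem F2' : (lX.all fun x => x.k || lX.all fun c => Wk.cm c x || lX.all fun t => !Wk.cm t x || pYc t) = true := by
  decide +kernel
theorem F3 : (lX.all fun x => lX.all fun c => !Wk.cm c x || decide (c * x = x * c)) = true := by decide +kernel
theorem F2 {x c t : U5} (a : pX x = true) (b : pX c = true) (d : pX t = true) (m : x ∈ M2) (n : c * x ≠ x * c)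
    (e : t * x = x * t) : t ∈ Yc := by
  have i := List.all_eq_true.1 F2' x (mem_lX a)
  have k : x.k = false := by simpa [pM2] using (show pM2 x = true from m)
  rw [k, Bool.false_or] at i
  have j := List.all_eq_true.1 i c (mem_lX b)
  have l := List.all_eq_true.1 (List.all_eq_true.1 F3 x (mem_lX a)) c (mem_lX b)
  rw [decide_eq_false n, Bool.or_false, Bool.not_eq_true'] at l
  rw [l, Bool.false_or] at j
  have o := List.all_eq_true.1 j t (mem_lX d)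
  rwa [Wk.cm_of e, Bool.not_true, Bool.false_or] at o
theorem Yk_c : ∀ t ∈ Yk, t * e0 = e0 * t ∧ t * k0 = k0 * t := by decide +kernel
theorem gm : ∀ x, (x ∈ Q0 ↔ gam x ∈ Q0) ∧ (x ∈ R4 ↔ gam x ∈ L4) ∧ (x ∈ Q1 ↔ gam x ∈ Q2) ∧ (x ∈ Qf ↔ gam x ∈ Qf) := by
  simp only [gam_ap]; decide +kernel
end Tr
open Tr

namespace TM
variable (h : TM ι)
include h

theorem trA [IsSimpleGroup G] : ∃ g ∈ C1[ι z0], ∃ x ∈ M2, ∃ y, g * ι k0 * g⁻¹ = ι x ∧ g * ι e0 * g⁻¹ = ι y := by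
  obtain ⟨g, -, q, l⟩ := SO.tt (G := G) (fun c => absurd (h.inj (by
      rw [map_mul, map_mul]; exact c.is_comm.comm _ _)) (by decide : a0 * e0 ≠ e0 * a0)) h.syl (· ∈ M2.map ι) (by
      rintro _ ⟨x, rfl⟩ _ ⟨y, rfl⟩
      rw [← map_mul, h.mem_iff, h.mem_iff, h.mem_iff]; exact M2_mul x y) (u := ι k0)
    (by rw [← map_mul, show k0 * k0 = 1 by decide, map_one]) (map_pig C1[k0]) fun d a => mem_C1.1 (map_C1 _ a)
  obtain ⟨σ, p⟩ := h.pull (A := C1[k0]) (g := g) (by rintro _ ⟨d, a, rfl⟩; exact l d a)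
  have mk : k0 ∈ C1[k0] := by decide
  have me : e0 ∈ C1[k0] := by decide
  have mz : z0 ∈ C1[k0] := by decide
  have ma : a0 ∈ C1[k0] := by decide
  have mj : j0 ∈ C1[k0] := by decide
  have mh : h0 ∈ C1[k0] := by decide
  have xM : σ k0 ∈ M2 := h.mem_iff.1 (p.eq _ mk ▸ q)
  have cw : ∀ y ∈ C1[k0], σ y ∈ C1[σ z0] := fun y a => mem_C1.2 (p.cm a mz (z0_cen y))
  have cz : Cj ⊤ (ι (σ z0)) (ι z0) := (p.cj (mem_top g) mz).symm
  have w : σ z0 ∈ W8 := by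
    have := g3 (σ a0) (σ e0 * σ j0) (p.sq1 ma (by decide))
    rwa [← p.mul _ me _ mj, p.sq (mul_mem me mj) (y := h0) (by decide), ← p.mul _ ma _ mh,
      p.sq (mul_mem ma mh) (y := z0) (by decide)] at this
  have fin : ∀ g' σ', Pull ι g' C1[σ z0] σ' → σ' (σ z0) = z0 → σ' (σ k0) ∈ M2 →
      ∃ g ∈ C1[ι z0], ∃ x ∈ M2, ∃ y, g * ι k0 * g⁻¹ = ι x ∧ g * ι e0 * g⁻¹ = ι y := fun g' σ' p' e m => by
    have f : ∀ y ∈ C1[k0], g' * g * ι y * (g' * g)⁻¹ = ι (σ' (σ y)) := fun y a => by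
      rw [p'.eq _ (cw y a), p.eq _ a]; group
    exact ⟨g' * g, mem_C1.2 (mul_inv_eq_iff_eq_mul.1 (by rw [f _ mz, e])), _, m, _, f _ mk, f _ me⟩
  rcases w8 _ w with e | e | e | ⟨n, t, ht, e⟩ | e
  · exact absurd e (p.ne1 mz (by decide))
  · exact absurd cz.symm (h.rk (by decide) e)
  · exact ⟨g, mem_C1.2 (mul_inv_eq_iff_eq_mul.1 (by rw [← p.eq _ mz, e])), _, xM, _, (p.eq _ mk).symm, (p.eq _ me).symm⟩
  all_goals obtain ⟨g', e', l'⟩ := h.toZ cz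
  all_goals obtain ⟨σ', p'⟩ := h.pull l'
  all_goals have e1 : σ' (σ z0) = z0 := h.inj ((p'.eq _ (mem_C1_self _)).trans e')
  · have c := cR _ (e ▸ (cR' t ht).1)
    have TC : T0 ≤ C1[σ z0] := fun y a => (c y).2 ((T_iff y).1 a).2
    have nt := h.nT ((cj_mono _ (map_mono TC)).trans l')
    have m1 : ∀ y ∈ E1, σ' y ∈ E1 := fun y a => h.pmem p' nt.1 (TC (Wk.E1_T a)) a
    have m2 : ∀ y ∈ E2, σ' y ∈ E2 := fun y a => h.pmem p' nt.2 (TC (Wk.E2_T a)) a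
    have mb : b0 ∈ E1 := by decide
    have mj : j0 ∈ E2 := by decide
    have s : ∀ t ∈ E2, σ' b0 * σ' t ∈ T0 ∧ σ' b0 * σ' t * (σ' b0 * σ' t) = σ' (b0 * t * (b0 * t)) := fun t a =>
      ⟨mul_mem (Wk.E1_T (m1 _ mb)) (Wk.E2_T (m2 _ a)), by
        rw [← p'.mul _ (TC (Wk.E1_T mb)) _ (TC (Wk.E2_T a))]
        exact p'.sq (TC (mul_mem (Wk.E1_T mb) (Wk.E2_T a))) rfl⟩
    have t2 := (cR' t ht).2
    have i := (Wk.d8 _ (s t t2).1 (by rw [(s t t2).2, e, e1])).1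
    rw [e_mul, (Wk.d8' _).2 (m2 _ t2)] at i
    have j := (Wk.d9 _ (s _ mj).1).1 (by rw [e_mul, (Wk.d8' _).2 (m2 _ mj)]; exact i)
    rw [(s _ mj).2, show b0 * j0 * (b0 * j0) = z0 by decide] at j
    have zc : z0 ∈ C1[σ z0] := mem_C1.2 (z0_cen _).symm
    refine fin g' σ' p' e1 ((cR (σ' z0) ?_ _).1 (mem_C1.2 (p'.cm (cw _ mk) zc (z0_cen _))))
    rcases Wk.mem_R4 _ j with u | u | u | u
    · exact absurd u (p'.ne1 zc (by decide))
    · exact absurd (u.trans e1.symm) (p'.ne zc (mem_C1_self _) n.symm)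
    · simp [u]
    · simp [u]
  · have c := cL (σ z0) (by simpa using e)
    have TC : T0 ≤ C1[σ z0] := fun y a => (c y).2 ((T_iff y).1 a).1
    have nt := h.nT ((cj_mono _ (map_mono TC)).trans l')
    exact fin g' σ' p' e1 ((T_iff _).1 (h.pmem p' (h.NT_T nt) (cw _ mk) ((T_iff _).2 ⟨(c _).1 (cw _ mk), xM⟩))).2

omit h in
theorem oq (o : a ∈ O[{2}ᶜ](C1[ι z0])) (i : b ∈ ι.range) (j : a * b * a⁻¹ ∈ ι.range) : a * b * a⁻¹ = b := by
  have : a * b * a⁻¹ * b⁻¹ ∈ ι.range ⊓ O[{2}ᶜ](C1[ι z0]) := mem_inf.2 ⟨mul_mem j (inv_mem i), by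
    rw [mul_assoc, mul_assoc, ← mul_assoc b]
    exact mul_mem o (conj_mem (O_norm _ _ (rg_cen i)) (inv_mem o))⟩
  rwa [(rg_pig ι).inf_bot (O_pig _ _), mem_bot, mul_inv_eq_one] at this

theorem trN [IsSimpleGroup G] : ∃ g ∈ Nz ι, ∃ x ∈ M2, ∃ y, g * ι k0 * g⁻¹ = ι x ∧ g * ι e0 * g⁻¹ = ι y := by
  obtain ⟨g, a, x, b, y, e1, e2⟩ := h.trA
  obtain ⟨o, i, n, j, rfl⟩ := (mem_sup_l (Nz_le.trans (O_norm _ _))).1 (h.normQ a)
  have s : ι e0 * ι e0 = 1 := by rw [← map_mul, show e0 * e0 = 1 by decide, map_one]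
  have s1 : n * ι e0 * n⁻¹ * (n * ι e0 * n⁻¹) = 1 := by rw [conj_mul, s]; simp
  have yN : n * ι e0 * n⁻¹ ∈ Nz ι := mul_mem (mul_mem j (rg_Nz (mem_rg _))) (inv_mem j)
  have uO : n * ι e0 * n⁻¹ * ι y ∈ O[{2}ᶜ](C1[ι z0]) := by
    have := mul_mem (conj_mem (O_norm _ _ (Nz_le yN)) i) (inv_mem i)
    rw [inv_eq_of_mul_eq_one_right s1] at this
    rw [← e2]; convert this using 1; group
  obtain ⟨m, e⟩ := Inv.exists_zpow_conj_of_odd s1 (cjsq e2 (by decide))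
    (Nat.not_even_iff_odd.1 fun c => (pin_compl p2).1 ((O_pig _ _).elt uO) c.two_dvd)
  have uN := zpow_mem (mul_mem yN (rg_Nz (mem_rg y))) m
  have uO' := zpow_mem uO m
  generalize (n * ι e0 * n⁻¹ * ι y) ^ m = u at e uN uO'
  refine ⟨u * n, mul_mem uN j, x, b, y, ?_, by rw [← e]; group⟩
  have f : u * n * ι k0 * (u * n)⁻¹ = u * o⁻¹ * ι x * (u * o⁻¹)⁻¹ := by rw [← e1]; group
  rw [f]
  exact oq (mul_mem uO' (inv_mem i)) (mem_rg x) (f ▸ map_le _ (conj_mem (mul_mem uN j).2 (mem_im (by decide))))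

theorem trR [IsSimpleGroup G] : ¬ Nz ι ≤ N[R4.map ι] := fun l => by
  obtain ⟨g, a, x, b, y, e, -⟩ := h.trN
  obtain ⟨r, i, j⟩ := conj_mem' (l a) (mem_im (ι := ι) (show c0 ∈ R4 by decide))
  have c := congrArg ι (mem_C1.1 ((cR c0 (by simp) x).2 b))
  rw [map_mul, map_mul, ← e] at c
  have : k0 * r = r * k0 := h.inj (by
    rw [map_mul, map_mul, j]
    calc _ = g⁻¹ * (g * ι k0 * g⁻¹ * ι c0) * g := by group
      _ = _ := by rw [c]; group)
  rcases (by decide +kernel : ∀ r ∈ R4, k0 * r = r * k0 → r = 1 ∨ r = z0) r i this with rfl | rfl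
  · rw [map_one, eq_comm, mul_assoc, inv_mul_eq_one, eq_comm, mul_eq_right] at j
    exact h.ne_one (by decide) j
  · refine absurd (h.inj (a₁ := c0) (a₂ := z0) ?_) (by decide)
    calc _ = g * (g⁻¹ * ι c0 * g) * g⁻¹ := by group
      _ = _ := by rw [← j, mem_C1.1 a.1, mul_inv_cancel_right]

omit h in
theorem qeB (a : g ∈ Nz ι) (e : g * ι e0 * g⁻¹ = ι y) (l : Q0 ≤ B) (m : y ∈ B) : BG.cj g (Qe.map ι) ≤ B.map ι := by
  rintro _ ⟨_, ⟨t, i, rfl⟩, rfl⟩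
  change g * ι t * g⁻¹ ∈ _
  rcases Qe_iff t i with j | j
  · exact map_mono l (conj_mem a.2 (mem_im j))
  · have := mul_mem (map_mono l (conj_mem a.2 (mem_im (ι := ι) j))) (e ▸ mem_im m : g * ι e0 * g⁻¹ ∈ B.map ι)
    rwa [conj_mul, ← map_mul, mul_assoc t, show e0 * e0 = 1 by decide, mul_one] at this

theorem nQ (a : g ∈ Nz ι) (e : g * ι e0 * g⁻¹ = ι y) : y ∉ Q0 := fun i => by
  have := conj_mem' a.2 (mem_im (ι := ι) i)
  rw [← e] at this
  exact absurd (h.mem_iff.1 (show ι e0 ∈ Q0.map ι by simpa [mul_assoc] using this)) (by decide)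

theorem sylQ (n : ¬ ∃ g ∈ Nz ι ⊓ N[Q1.map ι], ∃ x ∈ Qf, x ∉ Q0 ∧ g * ι e0 * g⁻¹ = ι x) :
    Syl 2 (Q1.map ι) (Nz ι ⊓ N[Qe.map ι]) := by
  refine syl_of_max p2 (le_inf ((map_le _).trans rg_Nz) (norm_map n_Qe ι)) (map_pig _) fun P hP l1 l2 => ?_
  have key : ∀ m ∈ Nz ι, BG.cj m P ≤ ι.range → ∀ y ∈ Qe, m * ι e0 * m⁻¹ = ι y → P = Q1.map ι := fun m a l y b e => by
    have c := mem_N_of_cj_le (qeB a e Q_Qe b)
    have d : BG.cj m P ≤ N[Qe.map ι] := cj_le_of_mem (l1.trans inf_le_right) (normG _ c)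
    refine (eq_of_card_le l2 ?_).symm
    rw [← card_cj m P]
    refine card_le_of_le fun s i => ?_
    obtain ⟨t, rfl⟩ := l i
    have := conj_mem (d i) (mem_im (ι := ι) (show e0 ∈ Qe by decide))
    rw [← map_inv, ← map_mul, ← map_mul] at this
    exact mem_im (nS t (h.mem_iff.1 this))
  obtain ⟨m, a, l⟩ := h.cj_sub rg_Nz (l1.trans inf_le_left) hP
  have b := h.n1 ((cj_mono _ ((map_mono E1_Q1).trans l2)).trans l)
  obtain ⟨y, i, e⟩ := conj_mem b (mem_im (ι := ι) (show e0 ∈ E1 by decide))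
  rcases cs2 y i with j | j | j
  · refine (n ⟨m, ⟨a, mem_N_iff_cj.2 ?_⟩, y, j, h.nQ a e.symm, e.symm⟩).elim
    rw [Q1_sup, Subgroup.map_sup, cj_sup, cj_of_mem_N a.2, cj_of_mem_N b]
  · exact key m a l y j e.symm
  · exact key (ι i0 * m) (mul_mem (rg_Nz (mem_rg _)) a) (by
      rw [cj_mul]; exact cj_le_of_mem l (normG _ (mem_rg _))) _ j (by
      rw [map_mul, map_mul, map_inv, e]; group)

theorem core (s : Syl 2 (Q1.map ι) (Nz ι ⊓ N[Qe.map ι])) (a : g ∈ Nz ι) (b : x ∈ M2) (c : y ∈ Qe)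
    (e1 : g * ι k0 * g⁻¹ = ι x) (e2 : g * ι e0 * g⁻¹ = ι y) : False := by
  have n := mem_N_of_cj_le (qeB a e2 Q_Qe c)
  obtain ⟨σ, p⟩ := h.pullN n
  have me : e0 ∈ Qe := by decide
  have mk : k0 ∈ Qe := by decide
  have mc : c0 ∈ Qe := by decide
  obtain rfl : σ k0 = x := h.inj ((p.eq _ mk).trans e1)
  obtain rfl : σ e0 = y := h.inj ((p.eq _ me).trans e2)
  have f : ∀ t ∈ Q0, t * e0 = e0 * t → pX (σ t) = true := fun t i j =>
    F1 _ _ (h.pmem p a.2 (Q_Qe i) i) c (h.nQ a e2) (p.cm (Q_Qe i) me j)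
  have e : BG.cj g (Yk.map ι) = Yc.map ι := eq_of_card_le (by
    rintro _ ⟨_, ⟨t, i, rfl⟩, rfl⟩
    change g * ι t * g⁻¹ ∈ _
    have j := Q_Qe (Yk_Q i)
    rw [← p.eq _ j]
    refine mem_im (F2 (f k0 (by decide) (by decide)) (f c0 (by decide) (by decide)) (f t (Yk_Q i) (Yk_c t i).1) b ?_
      (p.cm j mk (Yk_c t i).2))
    rw [← p.mul _ mc _ mk, ← p.mul _ mk _ mc]
    exact p.ne (mul_mem mc mk) (mul_mem mk mc) (by decide)) (by rw [card_cj, h.card, h.card, card_Yk, card_Yc])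
  have gK : g⁻¹ ∈ Nz ι ⊓ N[Qe.map ι] := inv_mem ⟨a, n⟩
  obtain ⟨u, i, l⟩ := Syl.cj_sub (s.sub (le_inf s.le (norm_map n_Yk ι)) inf_le_left) p2
    (U := BG.cj g⁻¹ (Q1.map ι)) (le_inf (cj_le_of_mem s.le (normG _ gK)) (by
      rw [cj_le_iff, inv_inv, cj_N, e]; exact norm_map n_Yc ι)) ((map_pig _).cj _)
  rw [← cj_mul] at l
  have m := h.n1 ((cj_mono _ (map_mono E1_Q1)).trans (l.trans (map_le _)))
  have j : g * (u⁻¹ * ι k0 * u) * g⁻¹ ∈ Yc.map ι :=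
    e ▸ mem_cj_conj.2 (conj_mem' i.2 (mem_im (show k0 ∈ Yk by decide)))
  have := conj_mem m (map_mono Yc_E1 j)
  exact absurd (h.mem_iff.1 (show ι k0 ∈ E1.map ι by simpa [mul_assoc] using this)) (by decide)

theorem trE [IsSimpleGroup G] : ∃ g ∈ Nz ι ⊓ N[Q1.map ι], ∃ x ∈ Qf, x ∉ Q0 ∧ g * ι e0 * g⁻¹ = ι x := by
  by_contra n
  have s := h.sylQ n
  obtain ⟨g, a, x, b, y, e1, e2⟩ := h.trN
  rcases cs1 y (h.sq_of (cjsq e2 (by decide))) with j | j | j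
  · have l := qeB a e2 Q_Q2 j
    obtain ⟨u, i, l⟩ := s.cj_sub p2 (U := BG.cj g⁻¹ (Q2.map ι))
      (le_inf (cj_le_of_mem ((map_le _).trans rg_Nz) (normG _ (inv_mem a))) (by
        rw [cj_le_iff, inv_inv, cj_N]
        rintro _ ⟨s, i, rfl⟩
        refine mem_N_of fun v k => ?_
        obtain ⟨t, o, rfl⟩ := l k
        have := mem_im (ι := ι) (q2c s t i o)
        rw [← cj_of_mem_N a.2, map_mul, map_mul, map_mul, map_inv, map_inv] at this
        simpa using mul_mem (cj_mono g (map_mono Q_Qe) this) k)) ((map_pig _).cj _)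
    rw [← cj_mul] at l
    have l' := (cj_mono _ (map_mono E2_Q2)).trans l
    rw [cj_of_mem_N (h.n2 (l'.trans (map_le _)))] at l'
    exact absurd (h.mem_iff.1 (l' (mem_im (show i0 ∈ E2 by decide)))) (by decide)
  · exact h.core s a b j e1 e2
  · exact h.core s (mul_mem (rg_Nz (mem_rg i0)) a) (conj_mem (n_M2 (mem_top i0)) b) j
      (by rw [map_mul, map_mul, map_inv, ← e1]; group) (by rw [map_mul, map_mul, map_inv, ← e2]; group)
end TM

theorem TM.fu [IsSimpleGroup G] (h : TM ι) : Fu ι := by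
  have h' := h.comp gam
  have e : Nz (ι.comp gam.toMonoidHom) = Nz ι := by
    rw [Nz, Nz, map_comp gam fun x => (gm x).1]
    change C1[ι (gam z0)] ⊓ _ = _
    rw [show gam z0 = z0 by rw [gam_ap]; decide]
  refine ⟨h, h.normQ, h.trR, ?_, h.trE, ?_⟩
  · have := h'.trR
    rwa [e, map_comp gam fun x => (gm x).2.1] at this
  · obtain ⟨g, a, x, b, c, d⟩ := h'.trE
    rw [e, map_comp gam fun x => (gm x).2.2.1] at a
    refine ⟨g, a, gam x, (gm x).2.2.2.1 b, mt (gm x).1.2 c, ?_⟩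
    rw [← show gam e0 = i0 by rw [gam_ap]; decide]
    exact d

end Cfsg.Agent.U2
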