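import Cfsg.Agent.U2.Def

/-! # Finite checks for `Wk` -/

set_option autoImplicit false
set_option maxRecDepth 100000
set_option linter.unusedVariables false
set_option linter.unusedSectionVars false

namespace Cfsg.Agent.U2
open Cfsg Cfsg.Agent.BG Subgroup PHom
open Cfsg.Agent.S3F (p2)

universe u

variable {G : Type u} [Group G] [Finite G] {ι : U5 →* G} {H K M X Y : Subgroup G} {A B : Subgroup U5} {x y : U5}
  {a b g w : G}

/-- faster instances -/
instance faU (p : U5 → Prop) [DecidablePred p] : Decidable (∀ x, p x) :=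
  decidable_of_iff (U5.all.all (fun x => decide (p x)) = true)
    ⟨fun h x => of_decide_eq_true (List.all_eq_true.1 h x (U5.mem_all x)),
      fun h => List.all_eq_true.2 fun x _ => decide_eq_true (h x)⟩
instance exU (p : U5 → Prop) [DecidablePred p] : Decidable (∃ x, p x) :=
  decidable_of_iff (U5.all.any (fun x => decide (p x)) = true)
    ⟨fun h => (List.any_eq_true.1 h).imp fun _ a => of_decide_eq_true a.2,
      fun ⟨x, h⟩ => List.any_eq_true.2 ⟨x, U5.mem_all x, decide_eq_true h⟩⟩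

namespace Wk
open U5
def sqZ (x : U5) : Bool := !(x.a && x.e) && !(x.e && x.i) && !(x.i && x.k) && ((x.a && x.f) == (x.b && x.i)) &&
  ((x.e && x.j) == (x.f && x.k))
def sq1 (x : U5) : Bool := sqZ x && (((x.a && x.h) ^^ (x.b && x.j)) == (x.c && x.k))
def cmZ (x y : U5) : Bool := ((x.a && y.e) == (y.a && x.e)) && ((x.e && y.i) == (y.e && x.i)) &&
  ((x.i && y.k) == (y.i && x.k)) && (((x.a && y.f) ^^ (x.b && y.i)) == ((y.a && x.f) ^^ (y.b && x.i))) &&
  (((x.e && y.j) ^^ (x.f && y.k)) == ((y.e && x.j) ^^ (y.f && x.k)))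
def cm (x y : U5) : Bool := cmZ x y &&
  (((x.a && y.h) ^^ (x.b && y.j) ^^ (x.c && y.k)) == ((y.a && x.h) ^^ (y.b && x.j) ^^ (y.c && x.k)))
theorem sq_iff : ∀ x, (sq1 x = true ↔ x * x = 1) ∧ (sqZ x = true ↔ x * x ∈ Z0) := by decide +kernel
theorem bx : ∀ a b p q : Bool, (a ^^ b ^^ p) = (b ^^ a ^^ q) → (p == q) = true := by decide
theorem bx2 : ∀ a b p q r s : Bool, (a ^^ b ^^ p ^^ q) = (b ^^ a ^^ r ^^ s) → ((p ^^ q) == (r ^^ s)) = true := by decide
theorem bx3 : ∀ a b p q r s t u : Bool, (a ^^ b ^^ p ^^ q ^^ t) = (b ^^ a ^^ r ^^ s ^^ u) →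
    ((p ^^ q ^^ t) == (r ^^ s ^^ u)) = true := by decide
theorem cmZ_of {x y : U5} (e : x * y = y * x ∨ x * y = y * x * z0) : cmZ x y = true := by
  have k : (x * y).b = (y * x).b ∧ (x * y).f = (y * x).f ∧ (x * y).j = (y * x).j ∧ (x * y).c = (y * x).c ∧
      (x * y).h = (y * x).h := by
    rcases e with e | e <;> rw [e]
    · simp
    · exact (by decide +kernel : ∀ w : U5, (w * z0).b = w.b ∧ (w * z0).f = w.f ∧ (w * z0).j = w.j ∧ (w * z0).c = w.c ∧
        (w * z0).h = w.h) _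
  obtain ⟨k1, k2, k3, k4, k5⟩ := k
  simp only [cmZ, Bool.and_eq_true]
  exact ⟨⟨⟨⟨bx _ _ _ _ k1, bx _ _ _ _ k2⟩, bx _ _ _ _ k3⟩, bx2 _ _ _ _ _ _ k4⟩, bx2 _ _ _ _ _ _ k5⟩
theorem cm_of {x y : U5} (e : x * y = y * x) : cm x y = true := by
  simp only [cm, Bool.and_eq_true]
  exact ⟨cmZ_of (.inl e), bx3 _ _ _ _ _ _ _ _ (congrArg U5.z e)⟩
/-- the elements with square `1` -/
def il : List U5 := all.filter sq1
def zl : List U5 := all.filter sqZ
theorem mem_il {x : U5} (e : x * x = 1) : x ∈ il := List.mem_filter.2 ⟨mem_all x, (sq_iff x).1.2 e⟩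
theorem mem_zl {x : U5} (e : x * x ∈ Z0) : x ∈ zl := List.mem_filter.2 ⟨mem_all x, (sq_iff x).2.2 e⟩
theorem card_le_len {A : Subgroup U5} {l : List U5} (h : ∀ x ∈ A, x ∈ l) : #A ≤ l.length := by
  classical
  rw [card_sub]
  exact ((nodup_all.filter _).subperm fun x a => h x (by simpa using (List.mem_filter.1 a).2)).length_le
theorem d1' : (il.all fun x => pT0 x || Nat.blt (il.filter (cm x)).length 64) = true := by decide +kernel
theorem d1 : ∀ x ∈ il, x ∉ T0 → (il.filter (cm x)).length < 64 := fun x a n => by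
  have := List.all_eq_true.1 d1' x a
  rw [Bool.or_eq_true, Nat.blt_eq] at this
  exact this.resolve_left n
def t2 (l : List U5) : Bool := Nat.blt l.length 128 || (Nat.blt l.length 129 && l.any fun y => l.any fun w => !cmZ y w)
theorem d2a : ((zl.take 150).all fun x => pQ0 x || t2 (zl.filter (cmZ x))) = true := by decide +kernel
theorem d2b : ((zl.drop 150).all fun x => pQ0 x || t2 (zl.filter (cmZ x))) = true := by decide +kernel
theorem d2 : ∀ x ∈ zl, x ∉ Q0 → (zl.filter (cmZ x)).length ≤ 128 ∧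
    ((zl.filter (cmZ x)).length = 128 → ∃ y ∈ zl.filter (cmZ x), ∃ w ∈ zl.filter (cmZ x), cmZ y w = false) :=
  fun x a n => by
  rw [← List.take_append_drop 150 zl, List.mem_append] at a
  have := a.elim (List.all_eq_true.1 d2a x) (List.all_eq_true.1 d2b x)
  simp only [t2, Bool.or_eq_true, Nat.blt_eq, Bool.and_eq_true, List.any_eq_true, Bool.not_eq_true'] at this
  rcases this with i | i | i
  exacts [(n i).elim, ⟨by omega, fun e => by omega⟩, ⟨by omega, fun _ => i.2⟩]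
theorem d3 : ∀ x ∈ T0, x * x = 1 → x ∈ E1 ∨ x ∈ E2 := by decide +kernel
theorem E1_T : E1 ≤ T0 := le_of (by decide +kernel)
theorem E2_T : E2 ≤ T0 := le_of (by decide +kernel)
theorem U_E1 : U0 ≤ E1 := le_of (by decide +kernel)
theorem U_E2 : U0 ≤ E2 := le_of (by decide +kernel)
theorem U_T : U0 ≤ T0 := U_E1.trans E1_T
theorem U_iff : ∀ x, x ∈ U0 ↔ x ∈ E1 ∧ x ∈ E2 := by decide +kernel
theorem T_mul : ∀ x ∈ T0, ∃ y ∈ [1, b0, e0, b0 * e0], y⁻¹ * x ∈ E2 := by decide +kernel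
theorem T_sup : T0 = E1 ⊔ E2 := le_antisymm (fun x a => by
  obtain ⟨y, b, c⟩ := T_mul x a
  rw [← mul_inv_cancel_left y x]
  exact mul_mem (mem_sup_left ((by decide : ∀ y ∈ [1, b0, e0, b0 * e0], y ∈ E1) y b)) (mem_sup_right c))
  (sup_le E1_T E2_T)
theorem T_cU : T0 ≤ C[U0] := T_sup ▸ sup_le (ab_E1.abel.trans (centS U_E1)) (ab_E2.abel.trans (centS U_E2))

theorem e64 (ab : Abelem 2 A) (c : 64 ≤ #A) : A = E1 ∨ A = E2 := by
  have sq : ∀ x ∈ A, x * x = 1 := fun x a => (pow_two x).symm.trans (ab.pow x a)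
  have t : A ≤ T0 := fun x a => by_contra fun n => by
    have := card_le_len (A := A) (l := il.filter (cm x)) fun y b =>
      List.mem_filter.2 ⟨mem_il (sq y b), cm_of (le_C_iff.1 ab.abel x a y b)⟩
    have := d1 x (mem_il (sq x a)) n
    omega
  by_cases l : A ≤ E1
  · exact .inl (eq_of_card_le l (card_E1 ▸ c))
  obtain ⟨x, a, n⟩ := SetLike.not_le_iff_exists.1 l
  have x2 := (d3 x (t a) (sq x a)).resolve_left n
  refine .inr (eq_of_card_le (fun y b => by_contra fun m => ?_) (card_E2 ▸ c))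
  rcases d3 _ (t (mul_mem a b)) (sq _ (mul_mem a b)) with i | i
  · exact n ((mul_mem_cancel_right ((d3 y (t b) (sq y b)).resolve_right m)).1 i)
  · exact m ((mul_mem_cancel_left x2).1 i)

theorem q128 (s : ∀ x ∈ A, x * x ∈ Z0) (m : ∀ x ∈ A, ∀ y ∈ A, x * y = y * x ∨ x * y = y * x * z0) (c : 128 ≤ #A) :
    A = Q0 := eq_of_card_le (fun x a => by_contra fun n => by
  obtain ⟨d, d'⟩ := d2 x (mem_zl (s x a)) n
  have k : ∀ y ∈ A, y ∈ zl.filter (cmZ x) := fun y b => List.mem_filter.2 ⟨mem_zl (s y b), cmZ_of (m x a y b)⟩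
  have l := card_le_len k
  obtain ⟨y, d1, w, d2, d3⟩ := d' (by omega)
  have j : ∀ w ∈ zl.filter (cmZ x), w ∈ A := fun w b => by_contra fun n => by
    have := card_le_len (A := A) (l := (zl.filter (cmZ x)).erase w) fun y i =>
      (List.mem_erase_of_ne fun e : y = w => n (e ▸ i)).2 (k y i)
    rw [List.length_erase_of_mem b] at this
    omega
  exact absurd (cmZ_of (m _ (j y d1) _ (j w d2))) (by simp [d3])) (card_Q0 ▸ c)

/-- the commutators `[E1, E2]` -/
theorem d4 : ∀ x, rk1 x → ∃ y ∈ [b0, e0, b0 * e0], ∃ w ∈ [i0, j0, i0 * j0], y * w * (y * w) = x := by decide +kernel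
theorem d5 : ∀ x ∈ T0, x * x = 1 ∨ rk1 (x * x) := by decide +kernel
theorem d6 : ∀ x ∈ U0, x = 1 ∨ rk1 x ∨ rk2 x := by decide +kernel
theorem d7 : ∀ x, rk1 x → ¬ rk2 x := by decide +kernel
theorem d8 : ∀ x ∈ T0, x * x = z0 → x.e = false ∧ x.i = false := by decide +kernel
theorem d8' : ∀ x, (x ∈ E1 → x.i = false) ∧ (x ∈ E2 → x.e = false) := by decide +kernel
theorem d9 : ∀ x ∈ T0, (x.e = false → x * x ∈ R4) ∧ (x.i = false → x * x ∈ L4) := by decide +kernel
theorem mem_R4 : ∀ x ∈ R4, x = 1 ∨ x = z0 ∨ x = c0 ∨ x = c0 * z0 := by decide +kernel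
theorem mem_L4 : ∀ x ∈ L4, x = 1 ∨ x = z0 ∨ x = h0 ∨ x = h0 * z0 := by decide +kernel
theorem dQ : ∀ x ∈ Q0, x * x ∈ Z0 := by decide +kernel
end Wk

end Cfsg.Agent.U2
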