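import Cfsg.Agent.U2.Wd

/-! # Weak closure -/

set_option autoImplicit false
set_option maxRecDepth 100000
set_option linter.unusedVariables false
set_option linter.unusedSectionVars false

namespace Cfsg.Agent.U2
open Cfsg Cfsg.Agent.BG Subgroup PHom
open Cfsg.Agent.S3F (p2)

universe u

variable {G : Type u} [Group G] [Finite G] {ι : U5 →* G} {H K M X Y : Subgroup G} {A B : Subgroup U5} {x y : U5}
  {a b g w : G}

open Wk

namespace TM
variable (h : TM ι)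
include h

theorem ex_map (l : X ≤ ι.range) : ∃ A : Subgroup U5, A.map ι = X := ⟨X.comap ι, map_comap_eq_self l⟩

theorem e64 (l : X ≤ ι.range) (ab : Abelem 2 X) (c : 64 ≤ #X) : X = E1.map ι ∨ X = E2.map ι := by
  obtain ⟨A, rfl⟩ := h.ex_map l
  refine (Wk.e64 (ab_of A fun x a => h.sq_of ((pow_two _).symm.trans (ab.pow _ (mem_im a)))) (h.card A ▸ c)).imp
    (fun e => by rw [e]) fun e => by rw [e]

theorem ne12 : E1.map ι ≠ E2.map ι := fun e =>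
  absurd (h.mem_iff.1 (e ▸ mem_im (show b0 ∈ E1 by decide) : ι b0 ∈ E2.map ι)) (by decide)

theorem cj12 : BG.cj g (E1.map ι) ≠ E2.map ι := fun e => by
  have r1 : ι.range ≤ N[E1.map ι] := rg_norm n_E1
  have r2 : ι.range ≤ N[E2.map ι] := rg_norm n_E2
  obtain ⟨n, a, b⟩ := Syl.conj ((h.syl.cj_top g).sub (L := N[E2.map ι]) (e ▸ norm_cj.2 r1) le_top) p2 (h.sub r2)
  rw [← cj_mul] at b
  have w1 : BG.cj (n * g) (E1.map ι) = E2.map ι := by rw [cj_mul, e, cj_of_mem_N a]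
  have w2 : BG.cj (n * g) (E2.map ι) = E1.map ι :=
    (h.e64 (b ▸ cj_mono _ (map_le _)) ((ab_E2.map ι).cj _) (by rw [card_cj, h.card, card_E2])).resolve_right
      fun i => h.ne12 (cj_eq_cj.1 (w1.trans i.symm))
  have w3 : n * g * (n * g) ∈ N[E1.map ι] := mem_N_iff_cj.2 (by rw [cj_mul, w1, w2])
  obtain ⟨k, m, ⟨t, rfl⟩, o⟩ := Nat.exists_eq_two_pow_mul_odd (orderOf_pos (n * g)).ne'
  have p : PiE {2} ((n * g) ^ (2 * t + 1)) := (pin_pow_self p2 k).of_dvd (orderOf_dvd_of_pow_eq_one (by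
    rw [← pow_mul, mul_comm _ (2 ^ k), ← o, pow_orderOf_eq_one]))
  have := r1 ((h.sub (normG _)).mem_of_normal le_rfl p (pow_mem (mem_N_iff_cj.2 b) _))
  rw [pow_succ, pow_mul, pow_two, mul_mem_cancel_left (pow_mem w3 t)] at this
  exact h.ne12 ((cj_of_mem_N this).symm.trans w1)

theorem n1 (l : BG.cj g (E1.map ι) ≤ ι.range) : g ∈ N[E1.map ι] :=
  mem_N_iff_cj.2 ((h.e64 l ((ab_E1.map ι).cj _) (by rw [card_cj, h.card, card_E1])).resolve_right h.cj12)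
theorem n2 (l : BG.cj g (E2.map ι) ≤ ι.range) : g ∈ N[E2.map ι] :=
  mem_N_iff_cj.2 ((h.e64 l ((ab_E2.map ι).cj _) (by rw [card_cj, h.card, card_E2])).resolve_left
    fun e => h.cj12 (cj_eq_iff.1 e).symm)
theorem nT (l : BG.cj g (T0.map ι) ≤ ι.range) : g ∈ NT ι :=
  ⟨h.n1 ((cj_mono _ (map_mono E1_T)).trans l), h.n2 ((cj_mono _ (map_mono E2_T)).trans l)⟩
theorem NT_T : NT ι ≤ N[T0.map ι] := by
  rw [T_sup, Subgroup.map_sup]; exact normY inf_le_left inf_le_right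
theorem T_NT : N[T0.map ι] ≤ NT ι := fun g a => h.nT ((cj_of_mem_N a).le.trans (map_le _))

/-- a weakly closed subgroup controls the fusion in its centraliser -/
theorem ctl (wk : ∀ g, BG.cj g (A.map ι) ≤ ι.range → g ∈ N[A.map ι]) (l : ι.range ≤ K) (a : A ≤ C1[x]) (b : A ≤ C1[y])
    (e : Cj K (ι x) (ι y)) : Cj (K ⊓ N[A.map ι]) (ι x) (ι y) := by
  obtain ⟨g, hg, e⟩ := e
  obtain ⟨R, s, lR⟩ := syl_superset p2 (le_inf ((map_le A).trans l) ((map_mono b).trans (map_C1 y))) (map_pig A)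
  obtain ⟨c, hc, d⟩ := s.cj_sub p2 (U := BG.cj g (A.map ι)) (le_inf (cj_le_of_mem ((map_le A).trans l) (normG _ hg))
    (by rw [← e, ← cj_C1]; exact cj_mono _ ((map_mono a).trans (map_C1 x)))) ((map_pig A).cj g)
  obtain ⟨w, -, f⟩ := h.cj_sub le_top (le_top (a := R)) s.pi
  have w1 := wk w ((cj_mono _ lR).trans f)
  have w2 := wk (w * (c * g)) (by rw [cj_mul, cj_mul]; exact (cj_mono _ d).trans f)
  refine ⟨c * g, ⟨mul_mem hc.1 hg, (mul_mem_cancel_left w1).1 w2⟩, ?_⟩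
  rw [show c * g * ι x * (c * g)⁻¹ = c * (g * ι x * g⁻¹) * c⁻¹ by group, e, mem_C1.1 hc.2, mul_inv_cancel_right]

theorem ctl1 (l : ι.range ≤ K) (a : x ∈ E1) (b : y ∈ E1) (e : Cj K (ι x) (ι y)) : Cj (K ⊓ N[E1.map ι]) (ι x) (ι y) :=
  h.ctl (fun _ => h.n1) l (ab_E1.abel.trans (C_le_C1 a)) (ab_E1.abel.trans (C_le_C1 b)) e
theorem ctl2 (l : ι.range ≤ K) (a : x ∈ E2) (b : y ∈ E2) (e : Cj K (ι x) (ι y)) : Cj (K ⊓ N[E2.map ι]) (ι x) (ι y) :=
  h.ctl (fun _ => h.n2) l (ab_E2.abel.trans (C_le_C1 a)) (ab_E2.abel.trans (C_le_C1 b)) e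
theorem ctlU (l : ι.range ≤ K) (a : x ∈ U0) (b : y ∈ U0) (e : Cj K (ι x) (ι y)) : Cj (K ⊓ NT ι) (ι x) (ι y) :=
  (h.ctl (fun _ i => h.NT_T (h.nT i)) l (T_cU.trans (C_le_C1 a)) (T_cU.trans (C_le_C1 b)) e).mono
    (inf_le_inf_left _ h.T_NT)

theorem pmem {σ : U5 → U5} (q : Pull ι g A σ) (n : g ∈ N[B.map ι]) (a : x ∈ A) (b : x ∈ B) : σ x ∈ B :=
  h.mem_iff.1 (q.eq x a ▸ conj_mem n (mem_im b))
theorem pullN (n : g ∈ N[A.map ι]) : ∃ σ, Pull ι g A σ := h.pull ((cj_of_mem_N n).le.trans (map_le _))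

theorem prk1 {σ : U5 → U5} (q : Pull ι g T0 σ) (a : g ∈ NT ι) (b : rk1 x) : rk1 (σ x) := by
  obtain ⟨y, y1, w, w1, e⟩ := d4 x b
  have t : y * w ∈ T0 := mul_mem ((by decide : ∀ y ∈ [b0, e0, b0 * e0], y ∈ T0) y y1)
    ((by decide : ∀ y ∈ [i0, j0, i0 * j0], y ∈ T0) w w1)
  rw [← q.sq t e]
  exact (d5 _ (h.pmem q (h.NT_T a) t t)).resolve_left fun i => q.ne1 (U_T b.1) b.2.1 ((q.sq t e).symm.trans i)

/-- the action of `N(T)` on `T` -/
theorem pullT (a : g ∈ NT ι) : ∃ σ, Pull ι g T0 σ ∧ (∀ x ∈ E1, σ x ∈ E1) ∧ (∀ x ∈ E2, σ x ∈ E2) ∧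
    (∀ x ∈ T0, σ x ∈ T0) ∧ (∀ x, rk1 x → rk1 (σ x)) ∧ (∀ x, rk2 x → rk2 (σ x)) := by
  obtain ⟨σ, q⟩ := h.pullN (h.NT_T a)
  obtain ⟨τ, r⟩ := h.pullN (h.NT_T (inv_mem a))
  have e1 : ∀ x ∈ E1, σ x ∈ E1 := fun x b => h.pmem q a.1 (E1_T b) b
  have e2 : ∀ x ∈ E2, σ x ∈ E2 := fun x b => h.pmem q a.2 (E2_T b) b
  refine ⟨σ, q, e1, e2, fun x b => h.pmem q (h.NT_T a) b b, fun x => h.prk1 q a, fun x b => ?_⟩
  have u : σ x ∈ U0 := (U_iff _).2 ⟨e1 x (U_E1 b.1), e2 x (U_E2 b.1)⟩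
  rcases d6 _ u with i | i | i
  · exact (q.ne1 (U_T b.1) (by rintro rfl; exact absurd b (by decide)) i).elim
  · have := h.prk1 r (inv_mem a) i
    rw [show τ (σ x) = x from h.inj (by rw [r.eq _ (U_T u), q.eq _ (U_T b.1)]; group)] at this
    exact (d7 x this b).elim
  · exact i

theorem rk (a : rk1 x) (b : rk2 y) : ¬ Cj ⊤ (ι x) (ι y) := fun e => by
  obtain ⟨g, hg, e⟩ := h.ctlU le_top a.1 b.1 e
  obtain ⟨σ, q, -, -, -, r, -⟩ := h.pullT hg.2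
  exact d7 y (h.inj ((q.eq x (U_T a.1)).trans e) ▸ r x a) b

theorem pz {σ : U5 → U5} (q : Pull ι g A σ) (a : g ∈ C1[ι z0]) (m : z0 ∈ A) : σ z0 = z0 :=
  h.inj (by rw [q.eq _ m, mem_C1.1 a, mul_inv_cancel_right])

theorem nRL (a : g ∈ C1[ι z0]) (b : g ∈ NT ι) : g ∈ N[R4.map ι] ∧ g ∈ N[L4.map ι] := by
  obtain ⟨σ, q, e1, e2, t, -⟩ := h.pullT b
  have z := h.pz q a (by decide)
  have s : ∀ x ∈ T0, ∀ y ∈ T0, ∀ w, x * y * (x * y) = w → σ x * σ y * (σ x * σ y) = σ w := fun x i y j w e => by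
    rw [← q.mul x i y j, q.sq (mul_mem i j) e]
  obtain ⟨k1, k2⟩ := d8 _ (mul_mem (t _ (by decide)) (t _ (by decide)))
    ((s b0 (by decide) j0 (by decide) z0 (by decide)).trans z)
  change ((σ b0).e ^^ (σ j0).e) = false at k1
  change ((σ b0).i ^^ (σ j0).i) = false at k2
  rw [(d8' _).2 (e2 j0 (by decide))] at k1
  rw [(d8' _).1 (e1 b0 (by decide))] at k2
  have c : σ c0 ∈ R4 := s b0 (by decide) i0 (by decide) c0 (by decide) ▸
    (d9 _ (mul_mem (t _ (by decide)) (t _ (by decide)))).1 (by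
      change ((σ b0).e ^^ (σ i0).e) = false
      rw [(d8' _).2 (e2 i0 (by decide)), k1])
  have c' : σ h0 ∈ L4 := s e0 (by decide) j0 (by decide) h0 (by decide) ▸
    (d9 _ (mul_mem (t _ (by decide)) (t _ (by decide)))).2 (by
      change ((σ e0).i ^^ (σ j0).i) = false
      rw [(d8' _).1 (e1 e0 (by decide)), k2])
  refine ⟨mem_N_of ?_, mem_N_of ?_⟩ <;> rintro _ ⟨x, i, rfl⟩
  · rw [← q.eq x (le_of (by decide +kernel) i)]
    refine mem_im ?_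
    rcases mem_R4 x i with rfl | rfl | rfl | rfl
    exacts [q.one.symm ▸ one_mem _, z.symm ▸ by decide, c,
      q.mul c0 (by decide) z0 (by decide) ▸ mul_mem c (z.symm ▸ by decide)]
  · rw [← q.eq x (le_of (by decide +kernel) i)]
    refine mem_im ?_
    rcases mem_L4 x i with rfl | rfl | rfl | rfl
    exacts [q.one.symm ▸ one_mem _, z.symm ▸ by decide, c',
      q.mul h0 (by decide) z0 (by decide) ▸ mul_mem c' (z.symm ▸ by decide)]

theorem wkQ (a : g ∈ C1[ι z0]) (l : BG.cj g (Q0.map ι) ≤ ι.range) : g ∈ N[Q0.map ι] := by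
  obtain ⟨A, e⟩ := h.ex_map l
  have s : ∀ x ∈ A, x * x ∈ Z0 := fun x i => by
    have := e ▸ mem_im (ι := ι) i
    obtain ⟨y, j, f⟩ := mem_cj.1 this
    have k : ι (x * x) = g * ι (y * y) * g⁻¹ := by rw [map_mul, map_mul, f]; group
    rcases (mem_Z0 _).1 (dQ y j) with m | m <;> rw [m] at k
    · exact (mem_Z0 _).2 (.inl (h.inj (by rw [k]; simp)))
    · exact (mem_Z0 _).2 (.inr (h.inj (by rw [k, mem_C1.1 a, mul_inv_cancel_right])))
  have z : ∀ x, x * x ∈ Z0 → x⁻¹ = x ∨ x⁻¹ = x * z0 := by decide +kernel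
  have zz : z0 * z0 = 1 := by decide
  have c := z0_cen
  rw [mem_N_iff_cj, ← e, q128 s (fun x i y j => ?_) (by rw [← h.card, e, card_cj, h.card, card_Q0])]
  have t := z _ (s _ (mul_mem i j))
  have u : ∀ w, w * z0 * z0 = w := fun w => by rw [mul_assoc, zz, mul_one]
  have v : ∀ w y, w * z0 * y = w * y * z0 := fun w y => by rw [mul_assoc, ← c, mul_assoc]
  rw [mul_inv_rev] at t
  rcases z x (s x i) with p | p <;> rcases z y (s y j) with r | r <;> rw [p, r] at t <;>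
    (try simp only [← mul_assoc, v _ x, u] at t) <;> rcases t with t | t
  all_goals first
    | exact .inl t.symm
    | exact .inr t.symm
    | exact .inr (by rw [t, u])
    | exact .inl (mul_right_cancel t).symm
end TM

end Cfsg.Agent.U2
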